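import Mathlib

/-!
# L34C (S3154): a central elementary abelian 2-subgroup has a complement when the
2-elements are involutions (transfer into a Sylow 2-subgroup)
-/

set_option autoImplicit false

namespace Cfsg.Agent.L34C

/-- every element of a Sylow `2`-subgroup is a `2`-element -/
theorem l34_sylow_two_pow {M : Type*} [Group M] [Finite M] (P : Sylow 2 M) {x : M}
    (hx : x ∈ (P : Subgroup M)) : ∃ n : ℕ, x ^ 2 ^ n = 1 := by
  obtain ⟨n, hn⟩ := P.2 ⟨x, hx⟩
  refine ⟨n, ?_⟩
  have := congrArg Subtype.val hn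
  simpa using this

/-- a central `2`-subgroup lies in every Sylow `2`-subgroup -/
theorem l34_central_le_sylow {M : Type*} [Group M] [Finite M] (Z : Subgroup M)
    (hZc : Z ≤ Subgroup.center M) (hZ2 : ∀ z ∈ Z, z ^ 2 = 1) (P : Sylow 2 M) :
    Z ≤ (P : Subgroup M) := by
  have hZp : IsPGroup 2 Z := by
    intro z
    refine ⟨1, ?_⟩
    apply Subtype.ext
    simpa using hZ2 z.1 z.2
  obtain ⟨Q, hQ⟩ := hZp.exists_le_sylow
  obtain ⟨g, hg⟩ := MulAction.exists_smul_eq M Q P
  intro z hz
  have hzQ : z ∈ (Q : Subgroup M) := hQ hz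
  have h1 : g * z * g⁻¹ ∈ ((g • Q : Sylow 2 M) : Subgroup M) := by
    rw [Sylow.coe_subgroup_smul]
    have h0 := Subgroup.smul_mem_pointwise_smul z (MulAut.conj g) (Q : Subgroup M) hzQ
    rwa [MulAut.smul_def, MulAut.conj_apply] at h0
  rw [hg] at h1
  have hzc : z ∈ Subgroup.center M := hZc hz
  have h2 : g * z * g⁻¹ = z := by
    rw [Subgroup.mem_center_iff] at hzc
    rw [hzc g, mul_assoc, mul_inv_cancel, mul_one]
  rwa [h2] at h1

/-- **Complement by transfer.**  `Z` central of exponent `2`, `M = Z · M'`, every `2`-element of `M`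
an involution: then `Z` has a (normal) complement, the kernel of the transfer into a Sylow
`2`-subgroup. -/
theorem l34_transfer_compl {M : Type*} [Group M] [Finite M] (Z : Subgroup M)
    (hZc : Z ≤ Subgroup.center M) (hZ2 : ∀ z ∈ Z, z ^ 2 = 1)
    (hperf : Z ⊔ commutator M = ⊤)
    (h2 : ∀ s : M, (∃ n : ℕ, s ^ 2 ^ n = 1) → s ^ 2 = 1) :
    ∃ C : Subgroup M, C ⊓ Z = ⊥ ∧ C ⊔ Z = ⊤ := by
  classical
  obtain ⟨P⟩ : Nonempty (Sylow 2 M) := inferInstance
  have hP2 : ∀ x ∈ (P : Subgroup M), x ^ 2 = 1 := fun x hx => h2 x (l34_sylow_two_pow P hx)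
  -- `P` is commutative
  have hPc : ∀ x ∈ (P : Subgroup M), ∀ y ∈ (P : Subgroup M), x * y = y * x := by
    intro x hx y hy
    have hxy := hP2 (x * y) ((P : Subgroup M).mul_mem hx hy)
    have hxx := hP2 x hx
    have hyy := hP2 y hy
    have hxi : x⁻¹ = x := by
      rw [inv_eq_iff_mul_eq_one, ← pow_two, hxx]
    have hyi : y⁻¹ = y := by
      rw [inv_eq_iff_mul_eq_one, ← pow_two, hyy]
    have h3 : (x * y)⁻¹ = x * y := by
      rw [inv_eq_iff_mul_eq_one, ← pow_two, hxy]
    rw [mul_inv_rev, hxi, hyi] at h3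
    exact h3.symm
  have hcomm : commutator (P : Subgroup M) = ⊥ := by
    rw [commutator_def, Subgroup.commutator_eq_bot_iff_le_centralizer]
    intro x _
    rw [Subgroup.mem_centralizer_iff]
    intro y _
    apply Subtype.ext
    exact hPc y.1 y.2 x.1 x.2
  have hZP : Z ≤ (P : Subgroup M) := l34_central_le_sylow Z hZc hZ2 P
  let V : M →* Abelianization (P : Subgroup M) := MonoidHom.transfer Abelianization.of
  refine ⟨V.ker, ?_, ?_⟩
  · rw [eq_bot_iff]
    intro z hz
    obtain ⟨hzV, hzZ⟩ := hz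
    have hzc : z ∈ Subgroup.center M := hZc hzZ
    have key : ∀ (k : ℕ) (g₀ : M), g₀⁻¹ * z ^ k * g₀ ∈ (P : Subgroup M) →
        g₀⁻¹ * z ^ k * g₀ = z ^ k := by
      intro k g₀ _
      have hzk : z ^ k ∈ Subgroup.center M := (Subgroup.center M).pow_mem hzc k
      rw [Subgroup.mem_center_iff] at hzk
      rw [mul_assoc, ← hzk g₀, ← mul_assoc, inv_mul_cancel, one_mul]
    have h1 := MonoidHom.transfer_eq_pow (Abelianization.of : (P : Subgroup M) →* _) z key
    have h3 : V z = 1 := hzV
    rw [show V z = MonoidHom.transfer Abelianization.of z from rfl, h1] at h3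
    have h4 : (⟨z ^ (P : Subgroup M).index, MonoidHom.transfer_eq_pow_aux z key⟩ :
        (P : Subgroup M)) ∈ commutator (P : Subgroup M) := by
      rw [← Abelianization.ker_of]
      exact h3
    rw [hcomm, Subgroup.mem_bot] at h4
    have h5 : z ^ (P : Subgroup M).index = 1 := congrArg Subtype.val h4
    have hodd : ¬ 2 ∣ (P : Subgroup M).index := P.not_dvd_index
    have hz2 := hZ2 z hzZ
    rw [Subgroup.mem_bot]
    have hord : orderOf z ∣ 2 := orderOf_dvd_of_pow_eq_one hz2
    have hord' : orderOf z ∣ (P : Subgroup M).index := orderOf_dvd_of_pow_eq_one h5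
    have : orderOf z = 1 := by
      rcases (Nat.dvd_prime Nat.prime_two).mp hord with h | h
      · exact h
      · rw [h] at hord'
        exact absurd hord' hodd
    exact orderOf_eq_one_iff.mp this
  · rw [eq_top_iff, ← hperf]
    apply sup_le
    · exact le_sup_right
    · refine le_trans ?_ le_sup_left
      exact Abelianization.commutator_subset_ker V

end Cfsg.Agent.L34C
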