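import Mathlib
import Cfsg.Agent.L34C.AbsT

/-!
# L34C (S3154): a complement to the full preimage of `Ab` in its normaliser
-/

set_option autoImplicit false

namespace Cfsg.Agent.L34C

/-- Let `ψ : X → L₀` be onto with central kernel of exponent `2`, `Ab, Bb, Λ ≤ L₀` with
`N(Ab) = Ab ⋊ Λ`, `Λ` perfect, every non-trivial `2`-element of `Λ` conjugate into `Bb`, and the
full preimage of `Bb` of exponent `2`.  Then the full preimage of `Ab` has a complement in its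
normaliser, isomorphic to `Λ`. -/
theorem l34_abs_compl {X L₀ : Type*} [Group X] [Finite X] [Group L₀] (ψ : X →* L₀)
    (hψ : Function.Surjective ψ)
    (hker : ψ.ker ≤ Subgroup.center X) (hker2 : ∀ z ∈ ψ.ker, z ^ 2 = 1)
    (Ab Bb Λ : Subgroup L₀)
    (hK2 : ∀ k ∈ Bb.comap ψ, k ^ 2 = 1)
    (hΛperf : commutator ↥Λ = ⊤)
    (hΛ2 : ∀ l ∈ Λ, (∃ n : ℕ, l ^ 2 ^ n = 1) → l = 1 ∨ ∃ g : L₀, g * l * g⁻¹ ∈ Bb)
    (hΛn : Λ ≤ Subgroup.normalizer (Ab : Set L₀))
    (hnorm : ∀ n ∈ Subgroup.normalizer (Ab : Set L₀), ∃ a ∈ Ab, ∃ l ∈ Λ, n = a * l)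
    (hinf : Ab ⊓ Λ = ⊥) :
    ∃ C : Subgroup X, C ≤ Subgroup.normalizer ((Ab.comap ψ : Subgroup X) : Set X) ∧
      C ⊓ Ab.comap ψ = ⊥ ∧
      Ab.comap ψ ⊔ C = Subgroup.normalizer ((Ab.comap ψ : Subgroup X) : Set X) ∧
      Nonempty (↥C ≃* ↥Λ) := by
  classical
  -- central elements commute
  have hc : ∀ z ∈ ψ.ker, ∀ x : X, x * z = z * x := by
    intro z hz x
    have := hker hz
    rw [Subgroup.mem_center_iff] at this
    exact this x
  set M : Subgroup X := Λ.comap ψ with hM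
  set Z' : Subgroup ↥M := ψ.ker.subgroupOf M with hZ'
  have hmemZ' : ∀ m : ↥M, m ∈ Z' ↔ ψ (m : X) = 1 := by
    intro m
    rw [hZ', Subgroup.mem_subgroupOf, MonoidHom.mem_ker]
  -- the restriction of `ψ` to `M`
  let ψM : ↥M →* ↥Λ := (ψ.comp M.subtype).codRestrict Λ (fun m => m.2)
  have hψM : ∀ m : ↥M, ((ψM m : ↥Λ) : L₀) = ψ (m : X) := fun m => rfl
  have hψMs : Function.Surjective ψM := by
    rintro ⟨l, hl⟩
    obtain ⟨x, rfl⟩ := hψ l
    exact ⟨⟨x, hl⟩, rfl⟩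
  have hZc : Z' ≤ Subgroup.center ↥M := by
    intro z hz
    rw [Subgroup.mem_center_iff]
    intro m
    apply Subtype.ext
    exact hc _ ((hmemZ' z).mp hz) m
  have hZ2 : ∀ z ∈ Z', z ^ 2 = 1 := by
    intro z hz
    apply Subtype.ext
    exact hker2 _ ((hmemZ' z).mp hz)
  have hperf : Z' ⊔ commutator ↥M = ⊤ := by
    rw [eq_top_iff]
    intro m _
    have h1 : (commutator ↥M).map ψM = ⊤ := by
      rw [commutator_def, Subgroup.map_commutator, ← MonoidHom.range_eq_map,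
        MonoidHom.range_eq_top.mpr hψMs, ← commutator_def, hΛperf]
    have h2 : ψM m ∈ (commutator ↥M).map ψM := by rw [h1]; exact Subgroup.mem_top _
    obtain ⟨c, hcm, hcc⟩ := h2
    have h3 : m * c⁻¹ ∈ Z' := by
      rw [hmemZ']
      have : ψM (m * c⁻¹) = 1 := by rw [map_mul, map_inv, hcc, mul_inv_cancel]
      have := congrArg (fun l : ↥Λ => (l : L₀)) this
      simpa [hψM] using this
    have : m = (m * c⁻¹) * c := by rw [inv_mul_cancel_right]
    rw [this]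
    exact Subgroup.mul_mem _ ((le_sup_left : Z' ≤ Z' ⊔ commutator ↥M) h3)
      ((le_sup_right : commutator ↥M ≤ Z' ⊔ commutator ↥M) hcm)
  have h2 : ∀ s : ↥M, (∃ n : ℕ, s ^ 2 ^ n = 1) → s ^ 2 = 1 := by
    rintro s ⟨n, hn⟩
    have hsΛ : ψ (s : X) ∈ Λ := s.2
    have hn' : ψ (s : X) ^ 2 ^ n = 1 := by
      have := congrArg (fun m : ↥M => ψ (m : X)) hn
      simpa using this
    apply Subtype.ext
    show (s : X) ^ 2 = 1
    rcases hΛ2 _ hsΛ ⟨n, hn'⟩ with h1 | ⟨g, hg⟩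
    · exact hker2 _ h1
    · obtain ⟨x, rfl⟩ := hψ g
      have h3 : x * (s : X) * x⁻¹ ∈ Bb.comap ψ := by
        rw [Subgroup.mem_comap, map_mul, map_mul, map_inv]
        exact hg
      have h4 := hK2 _ h3
      have h5 : (x * (s : X) * x⁻¹) ^ 2 = x * (s : X) ^ 2 * x⁻¹ := by
        rw [pow_two, pow_two]; group
      rw [h5] at h4
      have h6 : (s : X) ^ 2 = x⁻¹ * (x * (s : X) ^ 2 * x⁻¹) * x := by group
      rw [h6, h4, mul_one, inv_mul_cancel]
  obtain ⟨C', hC1, hC2⟩ := l34_transfer_compl Z' hZc hZ2 hperf h2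
  set C : Subgroup X := C'.map M.subtype with hC
  have hCM : C ≤ M := by
    rintro _ ⟨m, -, rfl⟩
    exact m.2
  -- (★) an element of `C` in the kernel is trivial
  have hstar : ∀ x ∈ C, ψ x = 1 → x = 1 := by
    rintro _ ⟨m, hm, rfl⟩ h1
    have : m ∈ C' ⊓ Z' := ⟨hm, (hmemZ' m).mpr h1⟩
    rw [hC1, Subgroup.mem_bot] at this
    rw [this]; rfl
  -- (★★) `ψ` maps `C` onto `Λ`
  have hZn : Z'.Normal := by
    constructor
    intro z hz g
    have := hZc hz
    rw [Subgroup.mem_center_iff] at this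
    rw [this g, mul_assoc, mul_inv_cancel, mul_one]
    exact hz
  have hstar2 : ∀ l ∈ Λ, ∃ c ∈ C, ψ c = l := by
    intro l hl
    obtain ⟨x, rfl⟩ := hψ l
    have hx : (⟨x, hl⟩ : ↥M) ∈ C' ⊔ Z' := by rw [hC2]; exact Subgroup.mem_top _
    rw [Subgroup.mem_sup_of_normal_right] at hx
    obtain ⟨c, hcC, z, hz, hcz⟩ := hx
    refine ⟨(c : X), ⟨c, hcC, rfl⟩, ?_⟩
    have h1 : (c : X) * (z : X) = x := congrArg Subtype.val hcz
    rw [← h1, map_mul, (hmemZ' z).mp hz, mul_one]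
  -- the preimage of the normaliser
  have hnormpre : ∀ n : X, n ∈ Subgroup.normalizer ((Ab.comap ψ : Subgroup X) : Set X) ↔
      ψ n ∈ Subgroup.normalizer (Ab : Set L₀) := by
    intro n
    rw [Subgroup.mem_normalizer_iff, Subgroup.mem_normalizer_iff]
    constructor
    · intro h a
      obtain ⟨x, rfl⟩ := hψ a
      have := h x
      rw [Subgroup.mem_comap, Subgroup.mem_comap, map_mul, map_mul, map_inv] at this
      exact this
    · intro h x
      rw [Subgroup.mem_comap, Subgroup.mem_comap, map_mul, map_mul, map_inv]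
      exact h (ψ x)
  have hCn : C ≤ Subgroup.normalizer ((Ab.comap ψ : Subgroup X) : Set X) := by
    intro c hcC
    rw [hnormpre]
    exact hΛn (hCM hcC)
  refine ⟨C, hCn, ?_, ?_, ?_⟩
  · rw [eq_bot_iff]
    rintro x ⟨hxC, hxH⟩
    rw [Subgroup.mem_bot]
    apply hstar x hxC
    have : ψ x ∈ Ab ⊓ Λ := ⟨hxH, hCM hxC⟩
    rw [hinf, Subgroup.mem_bot] at this
    exact this
  · apply le_antisymm
    · exact sup_le Subgroup.le_normalizer hCn
    · intro n hn
      rw [hnormpre] at hn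
      obtain ⟨a, ha, l, hl, hnal⟩ := hnorm _ hn
      obtain ⟨c, hcC, hcl⟩ := hstar2 l hl
      have h1 : n * c⁻¹ ∈ Ab.comap ψ := by
        rw [Subgroup.mem_comap, map_mul, map_inv, hnal, hcl, mul_inv_cancel_right]
        exact ha
      have h2 : n = (n * c⁻¹) * c := by rw [inv_mul_cancel_right]
      rw [h2]
      exact Subgroup.mul_mem _ ((le_sup_left : Ab.comap ψ ≤ Ab.comap ψ ⊔ C) h1)
        ((le_sup_right : C ≤ Ab.comap ψ ⊔ C) hcC)
  · let f : ↥C →* ↥Λ := (ψ.comp C.subtype).codRestrict Λ (fun c => hCM c.2)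
    have hf : ∀ c : ↥C, ((f c : ↥Λ) : L₀) = ψ (c : X) := fun c => rfl
    refine ⟨MulEquiv.ofBijective f ⟨?_, ?_⟩⟩
    · rw [injective_iff_map_eq_one]
      intro c hc1
      apply Subtype.ext
      apply hstar _ c.2
      have := congrArg (fun l : ↥Λ => (l : L₀)) hc1
      simpa [hf] using this
    · rintro ⟨l, hl⟩
      obtain ⟨c, hcC, hcl⟩ := hstar2 l hl
      exact ⟨⟨c, hcC⟩, Subtype.ext hcl⟩

end Cfsg.Agent.L34C
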