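import Mathlib

/-!
# L34C (S3154): the preimage of a fused elementary abelian 2-subgroup of rank ≥ 3 under a
central extension with kernel of exponent 2 has exponent 2
-/

set_option autoImplicit false

namespace Cfsg.Agent.L34C

/-- Let `ψ : X → L₀` be onto with central kernel of exponent `2`, `Ab ≤ L₀` of exponent `2` all of
whose non-identity elements are conjugate in `L₀`, containing three independent elements.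
Then the full preimage of `Ab` has exponent `2`. -/
theorem l34_abs_exp_two {X L₀ : Type*} [Group X] [Group L₀] (ψ : X →* L₀)
    (hψ : Function.Surjective ψ)
    (hker : ψ.ker ≤ Subgroup.center X) (hker2 : ∀ z ∈ ψ.ker, z ^ 2 = 1)
    (Ab : Subgroup L₀)
    (hA2 : ∀ a ∈ Ab, a ^ 2 = 1)
    (htrans : ∀ a ∈ Ab, a ≠ 1 → ∀ a' ∈ Ab, a' ≠ 1 → ∃ l : L₀, l * a * l⁻¹ = a')
    (hind : ∃ a₁ ∈ Ab, ∃ a₂ ∈ Ab, ∃ a₃ ∈ Ab, a₁ ≠ 1 ∧ a₂ ≠ 1 ∧ a₃ ≠ 1 ∧ a₁ ≠ a₂ ∧ a₁ ≠ a₃ ∧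
      a₂ ≠ a₃ ∧ a₁ * a₂ ≠ a₃) :
    ∀ h ∈ Ab.comap ψ, h ^ 2 = 1 := by
  -- central elements commute
  have hc : ∀ z ∈ ψ.ker, ∀ x : X, x * z = z * x := by
    intro z hz x
    have := hker hz
    rw [Subgroup.mem_center_iff] at this
    exact this x
  -- squares of elements of the preimage are in the kernel
  have hsq : ∀ h : X, ψ h ∈ Ab → h ^ 2 ∈ ψ.ker := by
    intro h hh
    rw [MonoidHom.mem_ker, map_pow]
    exact hA2 _ hh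
  -- the inverse of an element of Ab
  have hinvA : ∀ a ∈ Ab, a⁻¹ = a := by
    intro a ha
    rw [inv_eq_iff_mul_eq_one, ← pow_two]
    exact hA2 a ha
  -- Ab is commutative
  have hAc : ∀ a ∈ Ab, ∀ b ∈ Ab, a * b = b * a := by
    intro a ha b hb
    have h3 : (a * b)⁻¹ = a * b := hinvA _ (Ab.mul_mem ha hb)
    rw [mul_inv_rev, hinvA a ha, hinvA b hb] at h3
    exact h3.symm
  -- fused elements have the same square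
  have hs : ∀ h h' : X, ψ h ∈ Ab → ψ h' ∈ Ab → ψ h ≠ 1 → ψ h' ≠ 1 → h ^ 2 = h' ^ 2 := by
    intro h h' hh hh' h1 h1'
    obtain ⟨l, hl⟩ := htrans _ hh h1 _ hh' h1'
    obtain ⟨n, rfl⟩ := hψ l
    obtain ⟨z, hz, e1⟩ : ∃ z ∈ ψ.ker, n * h * n⁻¹ = h' * z := by
      refine ⟨h'⁻¹ * (n * h * n⁻¹), ?_, ?_⟩
      · rw [MonoidHom.mem_ker, map_mul, map_inv, map_mul, map_mul, map_inv, hl, inv_mul_cancel]
      · rw [mul_inv_cancel_left]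
    have e2 : (n * h * n⁻¹) ^ 2 = h ^ 2 := by
      have : (n * h * n⁻¹) ^ 2 = n * h ^ 2 * n⁻¹ := by
        rw [pow_two, pow_two]; group
      rw [this, hc _ (hsq h hh) n, mul_inv_cancel_right]
    have e3 : (h' * z) ^ 2 = h' ^ 2 := by
      have : (h' * z) ^ 2 = h' * (z * h') * z := by
        rw [pow_two]; group
      rw [this, ← hc z hz h', ← mul_assoc, mul_assoc, ← pow_two, ← pow_two, hker2 z hz, mul_one]
    rw [← e2, e1, e3]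
  -- the commutator identity
  have hcomm : ∀ x y : X, ψ x ∈ Ab → ψ y ∈ Ab →
      x * y * x⁻¹ * y⁻¹ ∈ ψ.ker := by
    intro x y hx hy
    rw [MonoidHom.mem_ker, map_mul, map_mul, map_mul, map_inv, map_inv, hAc _ hx _ hy]
    group
  have hsqmul : ∀ x y : X, ψ x ∈ Ab → ψ y ∈ Ab →
      (x * y) ^ 2 = (x * y * x⁻¹ * y⁻¹) * x ^ 2 * y ^ 2 := by
    intro x y hx hy
    have hx2 := hc _ (hsq x hx)
    have e : x * y * x⁻¹ * y⁻¹ * x ^ 2 * y ^ 2 = x * y * x⁻¹ * y⁻¹ * (x ^ 2 * y) * y := by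
      rw [pow_two y]; group
    rw [e, ← hx2 y, pow_two, pow_two]
    group
  have hbil : ∀ x y y' : X, ψ x ∈ Ab → ψ y ∈ Ab → ψ y' ∈ Ab →
      x * (y * y') * x⁻¹ * (y * y')⁻¹ = (x * y * x⁻¹ * y⁻¹) * (x * y' * x⁻¹ * y'⁻¹) := by
    intro x y y' hx hy hy'
    have h1 := hc _ (hcomm x y' hx hy') y
    have e : x * (y * y') * x⁻¹ * (y * y')⁻¹ =
        (x * y * x⁻¹ * y⁻¹) * (y * (x * y' * x⁻¹ * y'⁻¹)) * y⁻¹ := by group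
    rw [e, h1]
    group
  obtain ⟨a₁, ha₁, a₂, ha₂, a₃, ha₃, n1, n2, n3, n12, n13, n23, n123⟩ := hind
  obtain ⟨h₁, rfl⟩ := hψ a₁
  obtain ⟨h₂, rfl⟩ := hψ a₂
  obtain ⟨h₃, rfl⟩ := hψ a₃
  -- products are nontrivial
  have m12 : ψ (h₁ * h₂) ≠ 1 := by
    rw [map_mul]
    intro h
    apply n12
    rw [mul_eq_one_iff_eq_inv, hinvA _ ha₂] at h
    exact h
  have m13 : ψ (h₁ * h₃) ≠ 1 := by
    rw [map_mul]
    intro h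
    apply n13
    rw [mul_eq_one_iff_eq_inv, hinvA _ ha₃] at h
    exact h
  have m23 : ψ (h₂ * h₃) ≠ 1 := by
    rw [map_mul]
    intro h
    apply n23
    rw [mul_eq_one_iff_eq_inv, hinvA _ ha₃] at h
    exact h
  have m123 : ψ (h₁ * (h₂ * h₃)) ≠ 1 := by
    rw [map_mul, map_mul, ← mul_assoc]
    intro h
    apply n123
    rw [mul_eq_one_iff_eq_inv, hinvA _ ha₃] at h
    exact h
  have k23 : ψ (h₂ * h₃) ∈ Ab := by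
    rw [map_mul]; exact Ab.mul_mem ha₂ ha₃
  have k12 : ψ (h₁ * h₂) ∈ Ab := by
    rw [map_mul]; exact Ab.mul_mem ha₁ ha₂
  have k13 : ψ (h₁ * h₃) ∈ Ab := by
    rw [map_mul]; exact Ab.mul_mem ha₁ ha₃
  have k123 : ψ (h₁ * (h₂ * h₃)) ∈ Ab := by
    rw [map_mul]; exact Ab.mul_mem ha₁ k23
  obtain ⟨z₀, hz₀⟩ : ∃ z₀ : X, z₀ = h₁ ^ 2 := ⟨_, rfl⟩
  have hz₀k : z₀ ∈ ψ.ker := hz₀ ▸ hsq h₁ ha₁
  have hz₀2 : z₀ ^ 2 = 1 := hker2 _ hz₀k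
  have q2 : h₂ ^ 2 = z₀ := hz₀ ▸ hs h₂ h₁ ha₂ ha₁ n2 n1
  have q3 : h₃ ^ 2 = z₀ := hz₀ ▸ hs h₃ h₁ ha₃ ha₁ n3 n1
  have q12 : (h₁ * h₂) ^ 2 = z₀ := hz₀ ▸ hs _ h₁ k12 ha₁ m12 n1
  have q13 : (h₁ * h₃) ^ 2 = z₀ := hz₀ ▸ hs _ h₁ k13 ha₁ m13 n1
  have q23 : (h₂ * h₃) ^ 2 = z₀ := hz₀ ▸ hs _ h₁ k23 ha₁ m23 n1
  have q123 : (h₁ * (h₂ * h₃)) ^ 2 = z₀ := hz₀ ▸ hs _ h₁ k123 ha₁ m123 n1
  -- commutators
  have c12 : h₁ * h₂ * h₁⁻¹ * h₂⁻¹ = z₀ := by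
    have := hsqmul h₁ h₂ ha₁ ha₂
    rw [q12, q2, ← hz₀] at this
    -- z₀ = c * z₀ * z₀
    have h5 : h₁ * h₂ * h₁⁻¹ * h₂⁻¹ * z₀ * z₀ = h₁ * h₂ * h₁⁻¹ * h₂⁻¹ := by
      rw [mul_assoc, ← pow_two, hz₀2, mul_one]
    rw [h5] at this
    exact this.symm
  have c13 : h₁ * h₃ * h₁⁻¹ * h₃⁻¹ = z₀ := by
    have := hsqmul h₁ h₃ ha₁ ha₃
    rw [q13, q3, ← hz₀] at this
    have h5 : h₁ * h₃ * h₁⁻¹ * h₃⁻¹ * z₀ * z₀ = h₁ * h₃ * h₁⁻¹ * h₃⁻¹ := by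
      rw [mul_assoc, ← pow_two, hz₀2, mul_one]
    rw [h5] at this
    exact this.symm
  have c123 : h₁ * (h₂ * h₃) * h₁⁻¹ * (h₂ * h₃)⁻¹ = z₀ := by
    have := hsqmul h₁ (h₂ * h₃) ha₁ k23
    rw [q123, q23, ← hz₀] at this
    have h5 : h₁ * (h₂ * h₃) * h₁⁻¹ * (h₂ * h₃)⁻¹ * z₀ * z₀ =
        h₁ * (h₂ * h₃) * h₁⁻¹ * (h₂ * h₃)⁻¹ := by
      rw [mul_assoc, ← pow_two, hz₀2, mul_one]
    rw [h5] at this
    exact this.symm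
  have hz₀1 : z₀ = 1 := by
    have := hbil h₁ h₂ h₃ ha₁ ha₂ ha₃
    rw [c123, c12, c13, ← pow_two, hz₀2] at this
    exact this
  intro h hh
  rw [Subgroup.mem_comap] at hh
  by_cases h1 : ψ h = 1
  · exact hker2 h (MonoidHom.mem_ker.mpr h1)
  · rw [hs h h₁ hh ha₁ h1 n1, ← hz₀, hz₀1]

end Cfsg.Agent.L34C
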