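import Mathlib

/-!
# L34C (S3154): the centre of the join of two commutative full preimages
-/

set_option autoImplicit false

namespace Cfsg.Agent.L34C

/-- Let `ψ : X → L₀` be onto, `Ab, Bb ≤ L₀` with commutative full preimages, such that every
element of `Ab ⊔ Bb` commuting with `Ab` and `Bb` lies in `Ab ⊓ Bb`.  Then the intersection of the
preimages is the centre of their join. -/
theorem l34_abs_center {X L₀ : Type*} [Group X] [Group L₀] (ψ : X →* L₀)
    (hψ : Function.Surjective ψ) (Ab Bb : Subgroup L₀)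
    (hHc : ∀ x ∈ Ab.comap ψ, ∀ y ∈ Ab.comap ψ, x * y = y * x)
    (hKc : ∀ x ∈ Bb.comap ψ, ∀ y ∈ Bb.comap ψ, x * y = y * x)
    (hcent : ∀ y ∈ Ab ⊔ Bb, (∀ a ∈ Ab, a * y = y * a) → (∀ b ∈ Bb, b * y = y * b) →
      y ∈ Ab ⊓ Bb) :
    Ab.comap ψ ⊓ Bb.comap ψ =
      (Subgroup.center ↥(Ab.comap ψ ⊔ Bb.comap ψ)).map (Ab.comap ψ ⊔ Bb.comap ψ).subtype := by
  set H := Ab.comap ψ with hH
  set K := Bb.comap ψ with hK
  apply le_antisymm
  · intro x hx
    have hxH : x ∈ H := hx.1
    have hxK : x ∈ K := hx.2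
    have hxJ : x ∈ H ⊔ K := (le_sup_left : H ≤ H ⊔ K) hxH
    refine ⟨⟨x, hxJ⟩, ?_, rfl⟩
    rw [SetLike.mem_coe, Subgroup.mem_center_iff]
    rintro ⟨g, hg⟩
    apply Subtype.ext
    show g * x = x * g
    have hle : H ⊔ K ≤ Subgroup.centralizer {x} := by
      apply sup_le
      · intro h hh
        rw [Subgroup.mem_centralizer_iff]
        intro y hy
        rw [Set.mem_singleton_iff] at hy
        subst hy
        exact hHc _ hxH _ hh
      · intro k hk
        rw [Subgroup.mem_centralizer_iff]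
        intro y hy
        rw [Set.mem_singleton_iff] at hy
        subst hy
        exact hKc _ hxK _ hk
    have := hle hg
    rw [Subgroup.mem_centralizer_iff] at this
    exact (this x rfl).symm
  · rintro _ ⟨⟨x, hxJ⟩, hxc, rfl⟩
    rw [SetLike.mem_coe, Subgroup.mem_center_iff] at hxc
    have hcomm : ∀ g ∈ H ⊔ K, g * x = x * g := by
      intro g hg
      have := hxc ⟨g, hg⟩
      exact congrArg Subtype.val this
    have h1 : ψ x ∈ Ab ⊔ Bb := by
      have : (H ⊔ K).map ψ = Ab ⊔ Bb := by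
        rw [Subgroup.map_sup, hH, hK, Subgroup.map_comap_eq_self_of_surjective hψ,
          Subgroup.map_comap_eq_self_of_surjective hψ]
      rw [← this]
      exact ⟨x, hxJ, rfl⟩
    have h2 : ∀ a ∈ Ab, a * ψ x = ψ x * a := by
      intro a ha
      obtain ⟨h, rfl⟩ := hψ a
      rw [← map_mul, ← map_mul, hcomm h ((le_sup_left : H ≤ H ⊔ K) ha)]
    have h3 : ∀ b ∈ Bb, b * ψ x = ψ x * b := by
      intro b hb
      obtain ⟨k, rfl⟩ := hψ b
      rw [← map_mul, ← map_mul, hcomm k ((le_sup_right : K ≤ H ⊔ K) hb)]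
    have h4 := hcent _ h1 h2 h3
    exact ⟨h4.1, h4.2⟩

end Cfsg.Agent.L34C
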