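import Mathlib

/-!
# L34C (S3154): explicit subgroups of `SL(3, F)`

`l34_u a b c` is the upper unitriangular matrix with entries `a` (0,1), `b` (1,2), `c` (0,2);
`l34_U` the group of all of them, `l34_A = {b = 0}` (identity outside row 0),
`l34_B = {a = 0}` (identity outside column 2); `l34_iA M = diag(1, M)`, `l34_iB M = diag(M, 1)`
the Levi complements of the normalisers of `l34_A`, `l34_B`.
-/

set_option autoImplicit false

namespace Cfsg.Agent.L34C

open Matrix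

variable {F : Type*} [Field F]

/-- the upper unitriangular matrix `[[1,a,c],[0,1,b],[0,0,1]]` -/
def l34_u (a b c : F) : Matrix.SpecialLinearGroup (Fin 3) F :=
  ⟨!![1, a, c; 0, 1, b; 0, 0, 1], by simp [Matrix.det_fin_three]⟩

theorem l34_u_val (a b c : F) :
    (l34_u a b c : Matrix (Fin 3) (Fin 3) F) = !![1, a, c; 0, 1, b; 0, 0, 1] := rfl

theorem l34_u_mul (a b c a' b' c' : F) :
    l34_u a b c * l34_u a' b' c' = l34_u (a + a') (b + b') (c + c' + a * b') := by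
  apply Matrix.SpecialLinearGroup.ext
  intro i j
  rw [Matrix.SpecialLinearGroup.coe_mul, l34_u_val, l34_u_val, l34_u_val]
  fin_cases i <;> fin_cases j <;> simp [Matrix.mul_apply, Fin.sum_univ_three] <;> ring

theorem l34_u_zero : l34_u (0 : F) 0 0 = 1 := by
  apply Matrix.SpecialLinearGroup.ext
  intro i j
  rw [l34_u_val, Matrix.SpecialLinearGroup.coe_one]
  fin_cases i <;> fin_cases j <;> simp

theorem l34_u_inj {a b c a' b' c' : F} (h : l34_u a b c = l34_u a' b' c') :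
    a = a' ∧ b = b' ∧ c = c' := by
  have h1 := congrArg (fun g : Matrix.SpecialLinearGroup (Fin 3) F => (g : Matrix (Fin 3) (Fin 3) F)) h
  simp only [l34_u_val] at h1
  refine ⟨?_, ?_, ?_⟩
  · simpa using congrFun (congrFun h1 0) 1
  · simpa using congrFun (congrFun h1 1) 2
  · simpa using congrFun (congrFun h1 0) 2

theorem l34_u_inv (a b c : F) : (l34_u a b c)⁻¹ = l34_u (-a) (-b) (-c + a * b) := by
  rw [inv_eq_iff_mul_eq_one, l34_u_mul, ← l34_u_zero]
  congr 1 <;> ring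

/-- the upper unitriangular group -/
def l34_U (F : Type*) [Field F] : Subgroup (Matrix.SpecialLinearGroup (Fin 3) F) where
  carrier := {g | ∃ a b c : F, g = l34_u a b c}
  mul_mem' := by
    rintro _ _ ⟨a, b, c, rfl⟩ ⟨a', b', c', rfl⟩
    exact ⟨_, _, _, l34_u_mul a b c a' b' c'⟩
  one_mem' := ⟨0, 0, 0, l34_u_zero.symm⟩
  inv_mem' := by
    rintro _ ⟨a, b, c, rfl⟩
    exact ⟨_, _, _, l34_u_inv a b c⟩

/-- `{u(a,0,c)}`: identity outside row `0` -/
def l34_A (F : Type*) [Field F] : Subgroup (Matrix.SpecialLinearGroup (Fin 3) F) where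
  carrier := {g | ∃ a c : F, g = l34_u a 0 c}
  mul_mem' := by
    rintro _ _ ⟨a, c, rfl⟩ ⟨a', c', rfl⟩
    refine ⟨a + a', c + c', ?_⟩
    rw [l34_u_mul]
    congr 1 <;> ring
  one_mem' := ⟨0, 0, l34_u_zero.symm⟩
  inv_mem' := by
    rintro _ ⟨a, c, rfl⟩
    refine ⟨-a, -c, ?_⟩
    rw [l34_u_inv]
    congr 1 <;> ring

/-- `{u(0,b,c)}`: identity outside column `2` -/
def l34_B (F : Type*) [Field F] : Subgroup (Matrix.SpecialLinearGroup (Fin 3) F) where
  carrier := {g | ∃ b c : F, g = l34_u 0 b c}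
  mul_mem' := by
    rintro _ _ ⟨b, c, rfl⟩ ⟨b', c', rfl⟩
    refine ⟨b + b', c + c', ?_⟩
    rw [l34_u_mul]
    congr 1 <;> ring
  one_mem' := ⟨0, 0, l34_u_zero.symm⟩
  inv_mem' := by
    rintro _ ⟨b, c, rfl⟩
    refine ⟨-b, -c, ?_⟩
    rw [l34_u_inv]
    congr 1 <;> ring

theorem l34_mem_U {g : Matrix.SpecialLinearGroup (Fin 3) F} :
    g ∈ l34_U F ↔ ∃ a b c : F, g = l34_u a b c := Iff.rfl

theorem l34_mem_A {g : Matrix.SpecialLinearGroup (Fin 3) F} :
    g ∈ l34_A F ↔ ∃ a c : F, g = l34_u a 0 c := Iff.rfl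

theorem l34_mem_B {g : Matrix.SpecialLinearGroup (Fin 3) F} :
    g ∈ l34_B F ↔ ∃ b c : F, g = l34_u 0 b c := Iff.rfl

theorem l34_A_le_U : l34_A F ≤ l34_U F := by
  rintro _ ⟨a, c, rfl⟩
  exact ⟨a, 0, c, rfl⟩

theorem l34_B_le_U : l34_B F ≤ l34_U F := by
  rintro _ ⟨b, c, rfl⟩
  exact ⟨0, b, c, rfl⟩

/-- `diag(1, M)` -/
def l34_iAf (M : Matrix.SpecialLinearGroup (Fin 2) F) : Matrix.SpecialLinearGroup (Fin 3) F :=
  ⟨!![1, 0, 0; 0, M.1 0 0, M.1 0 1; 0, M.1 1 0, M.1 1 1], by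
    have := M.2
    rw [Matrix.det_fin_two] at this
    rw [Matrix.det_fin_three]
    simp
    linear_combination this⟩

theorem l34_iAf_val (M : Matrix.SpecialLinearGroup (Fin 2) F) :
    (l34_iAf M : Matrix (Fin 3) (Fin 3) F) =
      !![1, 0, 0; 0, M.1 0 0, M.1 0 1; 0, M.1 1 0, M.1 1 1] := rfl

/-- `M ↦ diag(1, M)` -/
def l34_iA : Matrix.SpecialLinearGroup (Fin 2) F →* Matrix.SpecialLinearGroup (Fin 3) F where
  toFun := l34_iAf
  map_one' := by
    apply Matrix.SpecialLinearGroup.ext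
    intro i j
    rw [l34_iAf_val, Matrix.SpecialLinearGroup.coe_one]
    fin_cases i <;> fin_cases j <;> simp
  map_mul' M N := by
    apply Matrix.SpecialLinearGroup.ext
    intro i j
    rw [Matrix.SpecialLinearGroup.coe_mul, l34_iAf_val, l34_iAf_val, l34_iAf_val]
    have e : ((M * N : Matrix.SpecialLinearGroup (Fin 2) F)).1 = M.1 * N.1 := rfl
    rw [e]
    fin_cases i <;> fin_cases j <;>
      simp [Matrix.mul_apply, Fin.sum_univ_three, Fin.sum_univ_two]

theorem l34_iA_val (M : Matrix.SpecialLinearGroup (Fin 2) F) :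
    (l34_iA M : Matrix (Fin 3) (Fin 3) F) =
      !![1, 0, 0; 0, M.1 0 0, M.1 0 1; 0, M.1 1 0, M.1 1 1] := rfl

/-- `diag(M, 1)` -/
def l34_iBf (M : Matrix.SpecialLinearGroup (Fin 2) F) : Matrix.SpecialLinearGroup (Fin 3) F :=
  ⟨!![M.1 0 0, M.1 0 1, 0; M.1 1 0, M.1 1 1, 0; 0, 0, 1], by
    have := M.2
    rw [Matrix.det_fin_two] at this
    rw [Matrix.det_fin_three]
    simp
    linear_combination this⟩

theorem l34_iBf_val (M : Matrix.SpecialLinearGroup (Fin 2) F) :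
    (l34_iBf M : Matrix (Fin 3) (Fin 3) F) =
      !![M.1 0 0, M.1 0 1, 0; M.1 1 0, M.1 1 1, 0; 0, 0, 1] := rfl

/-- `M ↦ diag(M, 1)` -/
def l34_iB : Matrix.SpecialLinearGroup (Fin 2) F →* Matrix.SpecialLinearGroup (Fin 3) F where
  toFun := l34_iBf
  map_one' := by
    apply Matrix.SpecialLinearGroup.ext
    intro i j
    rw [l34_iBf_val, Matrix.SpecialLinearGroup.coe_one]
    fin_cases i <;> fin_cases j <;> simp
  map_mul' M N := by
    apply Matrix.SpecialLinearGroup.ext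
    intro i j
    rw [Matrix.SpecialLinearGroup.coe_mul, l34_iBf_val, l34_iBf_val, l34_iBf_val]
    have e : ((M * N : Matrix.SpecialLinearGroup (Fin 2) F)).1 = M.1 * N.1 := rfl
    rw [e]
    fin_cases i <;> fin_cases j <;>
      simp [Matrix.mul_apply, Fin.sum_univ_three, Fin.sum_univ_two]

theorem l34_iB_val (M : Matrix.SpecialLinearGroup (Fin 2) F) :
    (l34_iB M : Matrix (Fin 3) (Fin 3) F) =
      !![M.1 0 0, M.1 0 1, 0; M.1 1 0, M.1 1 1, 0; 0, 0, 1] := rfl

end Cfsg.Agent.L34C
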