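import Mathlib
import Cfsg.Agent.L34C.Defs

/-!
# L34C (S3154): concrete facts [M2], [M3] on the unitriangular group of `SL(3, F)`, `|F| = 4`

* `l34_u_sq`: in characteristic 2, `u(a,b,c)² = u(0,0,ab)`.
* `l34_M2`: a subgroup of `l34_U F` of exponent 2 and order 16 is `l34_A F` or `l34_B F`.
* `l34_M3`: the elements of `l34_U F` commuting with `u(1,0,0)` and `u(0,1,0)` are exactly
  `l34_A F ⊓ l34_B F`.
-/

set_option autoImplicit false

namespace Cfsg.Agent.L34C

open Matrix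

variable {F : Type*} [Field F]

theorem l34_charTwo_of_card [Fintype F] (hF : Fintype.card F = 4) : CharP F 2 := by
  obtain ⟨p, hp⟩ := CharP.exists F
  haveI := hp
  obtain ⟨n, hpp, hn⟩ := FiniteField.card F p
  rw [hF] at hn
  have h2 : p ∣ 2 ^ 2 := by
    have : p ∣ p ^ (n : ℕ) := dvd_pow_self p n.ne_zero
    rw [← hn] at this
    simpa using this
  have h3 : p ∣ 2 := hpp.dvd_of_dvd_pow h2
  have h4 : p = 2 := (Nat.prime_dvd_prime_iff_eq hpp Nat.prime_two).mp h3
  subst h4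
  exact hp

theorem l34_u_sq [CharP F 2] (a b c : F) : l34_u a b c * l34_u a b c = l34_u 0 0 (a * b) := by
  rw [l34_u_mul]
  have h2 : ∀ x : F, x + x = 0 := fun x => CharTwo.add_self_eq_zero x
  congr 1
  · exact h2 a
  · exact h2 b
  · rw [h2 c, zero_add]

theorem l34_mem_A_iff {a b c : F} : l34_u a b c ∈ l34_A F ↔ b = 0 := by
  constructor
  · rintro ⟨a', c', h⟩
    exact (l34_u_inj h).2.1
  · rintro rfl
    exact ⟨a, c, rfl⟩

theorem l34_mem_B_iff {a b c : F} : l34_u a b c ∈ l34_B F ↔ a = 0 := by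
  constructor
  · rintro ⟨b', c', h⟩
    exact (l34_u_inj h).1
  · rintro rfl
    exact ⟨b, c, rfl⟩

/-- `F × F ≃ l34_A F` -/
noncomputable def l34_A_equiv (F : Type*) [Field F] : F × F ≃ l34_A F where
  toFun x := ⟨l34_u x.1 0 x.2, ⟨x.1, x.2, rfl⟩⟩
  invFun g := (g.2.choose, g.2.choose_spec.choose)
  left_inv x := by
    have h : l34_u x.1 0 x.2 ∈ l34_A F := ⟨x.1, x.2, rfl⟩
    have hs := h.choose_spec.choose_spec
    have := l34_u_inj hs
    ext
    · exact this.1.symm
    · exact this.2.2.symm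
  right_inv g := by
    apply Subtype.ext
    exact g.2.choose_spec.choose_spec.symm

noncomputable def l34_B_equiv (F : Type*) [Field F] : F × F ≃ l34_B F where
  toFun x := ⟨l34_u 0 x.1 x.2, ⟨x.1, x.2, rfl⟩⟩
  invFun g := (g.2.choose, g.2.choose_spec.choose)
  left_inv x := by
    have h : l34_u 0 x.1 x.2 ∈ l34_B F := ⟨x.1, x.2, rfl⟩
    have hs := h.choose_spec.choose_spec
    have := l34_u_inj hs
    ext
    · exact this.2.1.symm
    · exact this.2.2.symm
  right_inv g := by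
    apply Subtype.ext
    exact g.2.choose_spec.choose_spec.symm

theorem l34_card_A [Fintype F] : Nat.card (l34_A F) = Fintype.card F ^ 2 := by
  rw [← Nat.card_congr (l34_A_equiv F), Nat.card_prod, Nat.card_eq_fintype_card, sq]

theorem l34_card_B [Fintype F] : Nat.card (l34_B F) = Fintype.card F ^ 2 := by
  rw [← Nat.card_congr (l34_B_equiv F), Nat.card_prod, Nat.card_eq_fintype_card, sq]

/-- a subgroup contained in the union of two subgroups is contained in one of them -/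
theorem l34_le_or_le_of_subset_union {G : Type*} [Group G] (E A B : Subgroup G)
    (h : ∀ g ∈ E, g ∈ A ∨ g ∈ B) : E ≤ A ∨ E ≤ B := by
  by_contra hcon
  push_neg at hcon
  obtain ⟨hA, hB⟩ := hcon
  obtain ⟨x, hxE, hxA⟩ := SetLike.not_le_iff_exists.mp hA
  obtain ⟨y, hyE, hyB⟩ := SetLike.not_le_iff_exists.mp hB
  have hxB : x ∈ B := (h x hxE).resolve_left hxA
  have hyA : y ∈ A := (h y hyE).resolve_right hyB
  rcases h (x * y) (E.mul_mem hxE hyE) with h1 | h1
  · apply hxA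
    have := A.mul_mem h1 (A.inv_mem hyA)
    simpa using this
  · apply hyB
    have := B.mul_mem (B.inv_mem hxB) h1
    simpa using this

/-- **[M2]** a subgroup of `U` of exponent 2 and order 16 is `A` or `B` (`|F| = 4`). -/
theorem l34_M2 [Fintype F] (hF : Fintype.card F = 4)
    (E : Subgroup (Matrix.SpecialLinearGroup (Fin 3) F)) (hEU : E ≤ l34_U F)
    (hexp : ∀ g ∈ E, g * g = 1) (hcard : Nat.card E = 16) :
    E = l34_A F ∨ E = l34_B F := by
  haveI := l34_charTwo_of_card hF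
  have hun : ∀ g ∈ E, g ∈ l34_A F ∨ g ∈ l34_B F := by
    intro g hg
    obtain ⟨a, b, c, rfl⟩ := hEU hg
    have h1 := hexp _ hg
    rw [l34_u_sq, ← l34_u_zero] at h1
    have h2 : a * b = 0 := (l34_u_inj h1).2.2
    rcases mul_eq_zero.mp h2 with h3 | h3
    · right
      exact l34_mem_B_iff.mpr h3
    · left
      exact l34_mem_A_iff.mpr h3
  haveI : Finite (Matrix.SpecialLinearGroup (Fin 3) F) := inferInstance
  rcases l34_le_or_le_of_subset_union E _ _ hun with h | h
  · left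
    apply Subgroup.eq_of_le_of_card_ge h
    rw [l34_card_A, hF, hcard]
    norm_num
  · right
    apply Subgroup.eq_of_le_of_card_ge h
    rw [l34_card_B, hF, hcard]
    norm_num

/-- **[M3]** the elements of `U` commuting with `u(1,0,0)` and `u(0,1,0)` lie in `A ⊓ B`. -/
theorem l34_M3 {g : Matrix.SpecialLinearGroup (Fin 3) F} (hg : g ∈ l34_U F)
    (h1 : g * l34_u 1 0 0 = l34_u 1 0 0 * g) (h2 : g * l34_u 0 1 0 = l34_u 0 1 0 * g) :
    g ∈ l34_A F ⊓ l34_B F := by
  obtain ⟨a, b, c, rfl⟩ := hg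
  rw [l34_u_mul, l34_u_mul] at h1 h2
  have e1 := (l34_u_inj h1).2.2
  have e2 := (l34_u_inj h2).2.2
  have hb : b = 0 := by
    have : c + 0 + a * 0 = 0 + c + 1 * b := e1
    have h : b = (c + 0 + a * 0) - (0 + c) := by rw [this]; ring
    rw [h]; ring
  have ha : a = 0 := by
    have : c + 0 + a * 1 = 0 + c + 0 * b := e2
    have h : a = (c + 0 + a * 1) - (0 + c) := by ring
    rw [h, this]; ring
  exact ⟨l34_mem_A_iff.mpr hb, l34_mem_B_iff.mpr ha⟩

/-- the converse of **[M3]**: `A ⊓ B` is central in `U`. -/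
theorem l34_M3_conv {g h : Matrix.SpecialLinearGroup (Fin 3) F} (hg : g ∈ l34_A F ⊓ l34_B F)
    (hh : h ∈ l34_U F) : g * h = h * g := by
  obtain ⟨a, b, c, rfl⟩ := hh
  obtain ⟨⟨a', c', rfl⟩, hB⟩ := hg
  have ha' : a' = 0 := l34_mem_B_iff.mp hB
  subst ha'
  rw [l34_u_mul, l34_u_mul]
  congr 1 <;> ring

theorem l34_mem_A_inf_B {g : Matrix.SpecialLinearGroup (Fin 3) F} :
    g ∈ l34_A F ⊓ l34_B F ↔ ∃ c : F, g = l34_u 0 0 c := by
  constructor
  · rintro ⟨⟨a, c, rfl⟩, hB⟩
    have ha : a = 0 := l34_mem_B_iff.mp hB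
    subst ha
    exact ⟨c, rfl⟩
  · rintro ⟨c, rfl⟩
    exact ⟨⟨0, c, rfl⟩, ⟨0, c, rfl⟩⟩

end Cfsg.Agent.L34C
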