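import Mathlib
import Cfsg.Agent.L34C.Defs

/-!
# L34C (S3154): the images in `PSL(3, F)` of the explicit subgroups of `SL(3, F)`
-/

set_option autoImplicit false

namespace Cfsg.Agent.L34C

open Matrix

variable (F : Type*) [Field F]

/-- the quotient map `SL(3, F) → PSL(3, F)` -/
def l34_pi : Matrix.SpecialLinearGroup (Fin 3) F →*
    Matrix.ProjectiveSpecialLinearGroup (Fin 3) F :=
  QuotientGroup.mk' _

/-- the image of the unitriangular group -/
def l34_Ub : Subgroup (Matrix.ProjectiveSpecialLinearGroup (Fin 3) F) :=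
  (l34_U F).map (l34_pi F)

/-- the image of `l34_A` -/
def l34_Ab : Subgroup (Matrix.ProjectiveSpecialLinearGroup (Fin 3) F) :=
  (l34_A F).map (l34_pi F)

/-- the image of `l34_B` -/
def l34_Bb : Subgroup (Matrix.ProjectiveSpecialLinearGroup (Fin 3) F) :=
  (l34_B F).map (l34_pi F)

/-- the image of the Levi complement `diag(1, SL₂)` -/
def l34_LA : Subgroup (Matrix.ProjectiveSpecialLinearGroup (Fin 3) F) :=
  (l34_iA (F := F)).range.map (l34_pi F)

/-- the image of the Levi complement `diag(SL₂, 1)` -/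
def l34_LB : Subgroup (Matrix.ProjectiveSpecialLinearGroup (Fin 3) F) :=
  (l34_iB (F := F)).range.map (l34_pi F)

variable {F}

theorem l34_pi_surjective : Function.Surjective (l34_pi F) := QuotientGroup.mk'_surjective _

theorem l34_pi_ker :
    (l34_pi F).ker = Subgroup.center (Matrix.SpecialLinearGroup (Fin 3) F) :=
  QuotientGroup.ker_mk' _

theorem l34_pi_eq_one_iff {x : Matrix.SpecialLinearGroup (Fin 3) F} :
    l34_pi F x = 1 ↔ x ∈ Subgroup.center (Matrix.SpecialLinearGroup (Fin 3) F) := by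
  rw [← MonoidHom.mem_ker, l34_pi_ker]

/-- two elements with the same image differ by a central element -/
theorem l34_pi_eq_iff {x y : Matrix.SpecialLinearGroup (Fin 3) F} :
    l34_pi F x = l34_pi F y ↔
      ∃ z ∈ Subgroup.center (Matrix.SpecialLinearGroup (Fin 3) F), y = x * z := by
  constructor
  · intro h
    refine ⟨x⁻¹ * y, ?_, by rw [mul_inv_cancel_left]⟩
    rw [← l34_pi_eq_one_iff, map_mul, map_inv, h, inv_mul_cancel]
  · rintro ⟨z, hz, rfl⟩
    rw [map_mul, l34_pi_eq_one_iff.mpr hz, mul_one]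

/-- a central element is a scalar matrix `r • 1` with `r ^ 3 = 1` -/
theorem l34_center_scalar {z : Matrix.SpecialLinearGroup (Fin 3) F}
    (hz : z ∈ Subgroup.center (Matrix.SpecialLinearGroup (Fin 3) F)) :
    ∃ r : F, r ^ 3 = 1 ∧ (z : Matrix (Fin 3) (Fin 3) F) = r • (1 : Matrix (Fin 3) (Fin 3) F) := by
  obtain ⟨r, hr, h⟩ := Matrix.SpecialLinearGroup.mem_center_iff.mp hz
  refine ⟨r, by simpa using hr, ?_⟩
  rw [← h, Matrix.scalar_apply, Matrix.smul_one_eq_diagonal]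

/-- the cube of a central element is trivial -/
theorem l34_center_cube {z : Matrix.SpecialLinearGroup (Fin 3) F}
    (hz : z ∈ Subgroup.center (Matrix.SpecialLinearGroup (Fin 3) F)) : z ^ 3 = 1 := by
  obtain ⟨r, hr, h⟩ := l34_center_scalar hz
  apply Matrix.SpecialLinearGroup.ext
  intro i j
  rw [Matrix.SpecialLinearGroup.coe_pow, h, smul_pow, one_pow, hr, one_smul,
    Matrix.SpecialLinearGroup.coe_one]

/-- a central element whose square is trivial is trivial -/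
theorem l34_center_sq {z : Matrix.SpecialLinearGroup (Fin 3) F}
    (hz : z ∈ Subgroup.center (Matrix.SpecialLinearGroup (Fin 3) F)) (h2 : z ^ 2 = 1) : z = 1 := by
  have h3 := l34_center_cube hz
  have : z ^ 3 = z ^ 2 * z := pow_succ z 2
  rw [h3, h2, one_mul] at this
  exact this.symm

/-- a central unitriangular matrix is trivial -/
theorem l34_U_center {x : Matrix.SpecialLinearGroup (Fin 3) F} (hx : x ∈ l34_U F)
    (hz : x ∈ Subgroup.center (Matrix.SpecialLinearGroup (Fin 3) F)) : x = 1 := by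
  obtain ⟨a, b, c, rfl⟩ := hx
  obtain ⟨r, -, h⟩ := l34_center_scalar hz
  rw [l34_u_val] at h
  have h01 := congrFun (congrFun h 0) 1
  have h12 := congrFun (congrFun h 1) 2
  have h02 := congrFun (congrFun h 0) 2
  simp at h01 h12 h02
  rw [h01, h12, h02, l34_u_zero]

/-- the quotient map is injective on the unitriangular group -/
theorem l34_pi_inj_U {x y : Matrix.SpecialLinearGroup (Fin 3) F} (hx : x ∈ l34_U F)
    (hy : y ∈ l34_U F) (h : l34_pi F x = l34_pi F y) : x = y := by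
  have h1 : x⁻¹ * y ∈ Subgroup.center (Matrix.SpecialLinearGroup (Fin 3) F) := by
    rw [← l34_pi_eq_one_iff, map_mul, map_inv, h, inv_mul_cancel]
  have h2 := l34_U_center ((l34_U F).mul_mem ((l34_U F).inv_mem hx) hy) h1
  exact (inv_mul_eq_one.mp h2)

theorem l34_mem_Ub {y : Matrix.ProjectiveSpecialLinearGroup (Fin 3) F} :
    y ∈ l34_Ub F ↔ ∃ a b c : F, y = l34_pi F (l34_u a b c) := by
  constructor
  · rintro ⟨_, ⟨a, b, c, rfl⟩, rfl⟩
    exact ⟨a, b, c, rfl⟩
  · rintro ⟨a, b, c, rfl⟩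
    exact ⟨_, ⟨a, b, c, rfl⟩, rfl⟩

theorem l34_mem_Ab {y : Matrix.ProjectiveSpecialLinearGroup (Fin 3) F} :
    y ∈ l34_Ab F ↔ ∃ a c : F, y = l34_pi F (l34_u a 0 c) := by
  constructor
  · rintro ⟨_, ⟨a, c, rfl⟩, rfl⟩
    exact ⟨a, c, rfl⟩
  · rintro ⟨a, c, rfl⟩
    exact ⟨_, ⟨a, c, rfl⟩, rfl⟩

theorem l34_mem_Bb {y : Matrix.ProjectiveSpecialLinearGroup (Fin 3) F} :
    y ∈ l34_Bb F ↔ ∃ b c : F, y = l34_pi F (l34_u 0 b c) := by
  constructor
  · rintro ⟨_, ⟨b, c, rfl⟩, rfl⟩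
    exact ⟨b, c, rfl⟩
  · rintro ⟨b, c, rfl⟩
    exact ⟨_, ⟨b, c, rfl⟩, rfl⟩

theorem l34_mem_LA {y : Matrix.ProjectiveSpecialLinearGroup (Fin 3) F} :
    y ∈ l34_LA F ↔ ∃ M : Matrix.SpecialLinearGroup (Fin 2) F, y = l34_pi F (l34_iA M) := by
  constructor
  · rintro ⟨_, ⟨M, rfl⟩, rfl⟩
    exact ⟨M, rfl⟩
  · rintro ⟨M, rfl⟩
    exact ⟨_, ⟨M, rfl⟩, rfl⟩

theorem l34_mem_LB {y : Matrix.ProjectiveSpecialLinearGroup (Fin 3) F} :
    y ∈ l34_LB F ↔ ∃ M : Matrix.SpecialLinearGroup (Fin 2) F, y = l34_pi F (l34_iB M) := by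
  constructor
  · rintro ⟨_, ⟨M, rfl⟩, rfl⟩
    exact ⟨M, rfl⟩
  · rintro ⟨M, rfl⟩
    exact ⟨_, ⟨M, rfl⟩, rfl⟩

theorem l34_Ab_le_Ub : l34_Ab F ≤ l34_Ub F := Subgroup.map_mono l34_A_le_U

theorem l34_Bb_le_Ub : l34_Bb F ≤ l34_Ub F := Subgroup.map_mono l34_B_le_U

end Cfsg.Agent.L34C
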