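import Mathlib
import Cfsg.Agent.L34C.Quot
import Cfsg.Agent.L34C.M23
import Cfsg.Agent.Helper8.AutSLnB

/-!
# L34C (S3154), package MU: the image of the unitriangular group in `PSL(3, F)`, `|F| = 4`
-/

set_option autoImplicit false

namespace Cfsg.Agent.L34C

open Matrix

variable {F : Type*} [Field F]

/-- the quotient map is injective on the matrices `l34_u a b c` -/
theorem l34_pi_u_inj {a b c a' b' c' : F}
    (h : l34_pi F (l34_u a b c) = l34_pi F (l34_u a' b' c')) : a = a' ∧ b = b' ∧ c = c' :=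
  l34_u_inj (l34_pi_inj_U ⟨a, b, c, rfl⟩ ⟨a', b', c', rfl⟩ h)

theorem l34_pi_u_ne_one {a b c : F} (h : a ≠ 0 ∨ b ≠ 0 ∨ c ≠ 0) :
    l34_pi F (l34_u a b c) ≠ 1 := by
  intro h1
  rw [← map_one (l34_pi F), ← l34_u_zero] at h1
  obtain ⟨ha, hb, hc⟩ := l34_pi_u_inj h1
  rcases h with h | h | h
  · exact h ha
  · exact h hb
  · exact h hc

/-- the unitriangular group is helper8's `UT F 3` -/
theorem l34_U_eq_UT : l34_U F = Cfsg.Agent.Helper8.AutSLn.UT F 3 := by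
  ext g
  rw [l34_mem_U, Cfsg.Agent.Helper8.AutSLn.mem_UT]
  constructor
  · rintro ⟨a, b, c, rfl⟩
    refine ⟨?_, ?_⟩
    · intro i j hij
      rw [l34_u_val]
      fin_cases i <;> fin_cases j <;> simp at hij ⊢
    · intro i
      rw [l34_u_val]
      fin_cases i <;> simp
  · rintro ⟨h1, h2⟩
    refine ⟨g.1 0 1, g.1 1 2, g.1 0 2, ?_⟩
    apply Matrix.SpecialLinearGroup.ext
    intro i j
    rw [l34_u_val]
    have h10 : g.1 1 0 = 0 := h1 (by simp : id (0 : Fin 3) < id (1 : Fin 3))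
    have h20 : g.1 2 0 = 0 := h1 (by simp : id (0 : Fin 3) < id (2 : Fin 3))
    have h21 : g.1 2 1 = 0 := h1 (by simp : id (1 : Fin 3) < id (2 : Fin 3))
    have h00 := h2 0
    have h11 := h2 1
    have h22 := h2 2
    fin_cases i <;> fin_cases j <;> simp <;> assumption

variable [Fintype F]

theorem l34_Ab_sq (hF : Fintype.card F = 4) : ∀ a ∈ l34_Ab F, a ^ 2 = 1 := by
  have := l34_charTwo_of_card hF
  intro y hy
  obtain ⟨a, c, rfl⟩ := l34_mem_Ab.mp hy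
  rw [pow_two, ← map_mul, l34_u_sq, mul_zero, l34_u_zero, map_one]

theorem l34_Bb_sq (hF : Fintype.card F = 4) : ∀ b ∈ l34_Bb F, b ^ 2 = 1 := by
  have := l34_charTwo_of_card hF
  intro y hy
  obtain ⟨b, c, rfl⟩ := l34_mem_Bb.mp hy
  rw [pow_two, ← map_mul, l34_u_sq, zero_mul, l34_u_zero, map_one]

/-- a field with four elements has an element different from `0` and `1` -/
theorem l34_exists_omega (hF : Fintype.card F = 4) : ∃ ω : F, ω ≠ 0 ∧ ω ≠ 1 := by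
  classical
  by_contra hcon
  push Not at hcon
  have h1 : (Finset.univ : Finset F) ⊆ {0, 1} := by
    intro x _
    by_cases hx : x = 0
    · simp [hx]
    · simp [hcon x hx]
  have h2 := Finset.card_le_card h1
  rw [Finset.card_univ, hF] at h2
  have h3 : ({0, 1} : Finset F).card ≤ 2 := Finset.card_le_two
  omega

theorem l34_Ab_ind (hF : Fintype.card F = 4) :
    ∃ a₁ ∈ l34_Ab F, ∃ a₂ ∈ l34_Ab F, ∃ a₃ ∈ l34_Ab F, a₁ ≠ 1 ∧ a₂ ≠ 1 ∧ a₃ ≠ 1 ∧ a₁ ≠ a₂ ∧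
      a₁ ≠ a₃ ∧ a₂ ≠ a₃ ∧ a₁ * a₂ ≠ a₃ := by
  obtain ⟨ω, hω0, hω1⟩ := l34_exists_omega hF
  refine ⟨l34_pi F (l34_u 1 0 0), l34_mem_Ab.mpr ⟨1, 0, rfl⟩,
    l34_pi F (l34_u 0 0 1), l34_mem_Ab.mpr ⟨0, 1, rfl⟩,
    l34_pi F (l34_u ω 0 0), l34_mem_Ab.mpr ⟨ω, 0, rfl⟩, ?_, ?_, ?_, ?_, ?_, ?_, ?_⟩
  · exact l34_pi_u_ne_one (Or.inl one_ne_zero)
  · exact l34_pi_u_ne_one (Or.inr (Or.inr one_ne_zero))
  · exact l34_pi_u_ne_one (Or.inl hω0)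
  · intro h
    exact one_ne_zero (l34_pi_u_inj h).1
  · intro h
    exact hω1 (l34_pi_u_inj h).1.symm
  · intro h
    exact one_ne_zero (l34_pi_u_inj h).2.2
  · rw [← map_mul, l34_u_mul]
    intro h
    have := (l34_pi_u_inj h).1
    rw [add_zero] at this
    exact hω1 this.symm

theorem l34_Bb_ind (hF : Fintype.card F = 4) :
    ∃ a₁ ∈ l34_Bb F, ∃ a₂ ∈ l34_Bb F, ∃ a₃ ∈ l34_Bb F, a₁ ≠ 1 ∧ a₂ ≠ 1 ∧ a₃ ≠ 1 ∧ a₁ ≠ a₂ ∧
      a₁ ≠ a₃ ∧ a₂ ≠ a₃ ∧ a₁ * a₂ ≠ a₃ := by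
  obtain ⟨ω, hω0, hω1⟩ := l34_exists_omega hF
  refine ⟨l34_pi F (l34_u 0 1 0), l34_mem_Bb.mpr ⟨1, 0, rfl⟩,
    l34_pi F (l34_u 0 0 1), l34_mem_Bb.mpr ⟨0, 1, rfl⟩,
    l34_pi F (l34_u 0 ω 0), l34_mem_Bb.mpr ⟨ω, 0, rfl⟩, ?_, ?_, ?_, ?_, ?_, ?_, ?_⟩
  · exact l34_pi_u_ne_one (Or.inr (Or.inl one_ne_zero))
  · exact l34_pi_u_ne_one (Or.inr (Or.inr one_ne_zero))
  · exact l34_pi_u_ne_one (Or.inr (Or.inl hω0))
  · intro h
    exact one_ne_zero (l34_pi_u_inj h).2.1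
  · intro h
    exact hω1 (l34_pi_u_inj h).2.1.symm
  · intro h
    exact one_ne_zero (l34_pi_u_inj h).2.2
  · rw [← map_mul, l34_u_mul]
    intro h
    have := (l34_pi_u_inj h).2.1
    rw [add_zero] at this
    exact hω1 this.symm

omit [Fintype F] in
theorem l34_Ab_sup_Bb_le_Ub : l34_Ab F ⊔ l34_Bb F ≤ l34_Ub F :=
  sup_le l34_Ab_le_Ub l34_Bb_le_Ub

omit [Fintype F] in
theorem l34_hcent_aux :
    ∀ y ∈ l34_Ab F ⊔ l34_Bb F, (∀ a ∈ l34_Ab F, a * y = y * a) →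
      (∀ b ∈ l34_Bb F, b * y = y * b) → y ∈ l34_Ab F ⊓ l34_Bb F := by
  intro y hy hA hB
  obtain ⟨a, b, c, rfl⟩ := l34_mem_Ub.mp (sup_le l34_Ab_le_Ub l34_Bb_le_Ub hy)
  have h1 := hA _ (l34_mem_Ab.mpr ⟨1, 0, rfl⟩)
  have h2 := hB _ (l34_mem_Bb.mpr ⟨1, 0, rfl⟩)
  rw [← map_mul, ← map_mul] at h1 h2
  have hU : l34_u a b c ∈ l34_U F := ⟨a, b, c, rfl⟩
  have h1' := l34_pi_inj_U ((l34_U F).mul_mem ⟨1, 0, 0, rfl⟩ hU)
    ((l34_U F).mul_mem hU ⟨1, 0, 0, rfl⟩) h1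
  have h2' := l34_pi_inj_U ((l34_U F).mul_mem ⟨0, 1, 0, rfl⟩ hU)
    ((l34_U F).mul_mem hU ⟨0, 1, 0, rfl⟩) h2
  have h3 := l34_M3 hU h1'.symm h2'.symm
  exact ⟨⟨_, h3.1, rfl⟩, ⟨_, h3.2, rfl⟩⟩

theorem l34_hcent (_hF : Fintype.card F = 4) :
    ∀ y ∈ l34_Ab F ⊔ l34_Bb F, (∀ a ∈ l34_Ab F, a * y = y * a) →
      (∀ b ∈ l34_Bb F, b * y = y * b) → y ∈ l34_Ab F ⊓ l34_Bb F :=
  l34_hcent_aux

theorem l34_AbBb_ne (_hF : Fintype.card F = 4) : ∃ c ∈ l34_Ab F ⊓ l34_Bb F, c ≠ 1 :=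
  ⟨l34_pi F (l34_u 0 0 1), ⟨l34_mem_Ab.mpr ⟨0, 1, rfl⟩, l34_mem_Bb.mpr ⟨0, 1, rfl⟩⟩,
    l34_pi_u_ne_one (Or.inr (Or.inr one_ne_zero))⟩

theorem l34_Ub_sylow (hF : Fintype.card F = 4) :
    ∃ P : Sylow 2 (Matrix.ProjectiveSpecialLinearGroup (Fin 3) F),
      (P : Subgroup (Matrix.ProjectiveSpecialLinearGroup (Fin 3) F)) = l34_Ub F := by
  have := l34_charTwo_of_card hF
  have : Fact (Nat.Prime 2) := ⟨Nat.prime_two⟩
  refine ⟨Cfsg.Agent.Helper8.AutSLn.sylowUb (F := F) (n := 0) 2, ?_⟩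
  rw [Cfsg.Agent.Helper8.AutSLn.coe_sylowUb]
  unfold Cfsg.Agent.Helper8.AutSLn.Ub l34_Ub
  rw [l34_U_eq_UT]
  rfl

/-- an element of `Ū` of order at most 2 lies in `Āb` or `B̄b` -/
theorem l34_Ub_invol (hF : Fintype.card F = 4) :
    ∀ t ∈ l34_Ub F, t ^ 2 = 1 → t ∈ l34_Ab F ∨ t ∈ l34_Bb F := by
  have := l34_charTwo_of_card hF
  intro t ht h2
  obtain ⟨a, b, c, rfl⟩ := l34_mem_Ub.mp ht
  rw [pow_two, ← map_mul, l34_u_sq, ← map_one (l34_pi F), ← l34_u_zero] at h2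
  have h3 := (l34_pi_u_inj h2).2.2
  rcases mul_eq_zero.mp h3 with h | h
  · right
    subst h
    exact l34_mem_Bb.mpr ⟨b, c, rfl⟩
  · left
    subst h
    exact l34_mem_Ab.mpr ⟨a, c, rfl⟩

theorem l34_card_Ab_le (hF : Fintype.card F = 4) : Nat.card (l34_Ab F) ≤ 16 := by
  have h1 : Nat.card (l34_A F) = 16 := by rw [l34_card_A, hF]; norm_num
  rw [← h1]
  have hs : Function.Surjective
      (fun x : l34_A F => (⟨l34_pi F x.1, ⟨x.1, x.2, rfl⟩⟩ : l34_Ab F)) := by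
    rintro ⟨_, x, hx, rfl⟩
    exact ⟨⟨x, hx⟩, rfl⟩
  exact Nat.card_le_card_of_surjective _ hs

theorem l34_card_Bb_le (hF : Fintype.card F = 4) : Nat.card (l34_Bb F) ≤ 16 := by
  have h1 : Nat.card (l34_B F) = 16 := by rw [l34_card_B, hF]; norm_num
  rw [← h1]
  have hs : Function.Surjective
      (fun x : l34_B F => (⟨l34_pi F x.1, ⟨x.1, x.2, rfl⟩⟩ : l34_Bb F)) := by
    rintro ⟨_, x, hx, rfl⟩
    exact ⟨⟨x, hx⟩, rfl⟩
  exact Nat.card_le_card_of_surjective _ hs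

theorem l34_exp_two_Ub (hF : Fintype.card F = 4)
    (E : Subgroup (Matrix.ProjectiveSpecialLinearGroup (Fin 3) F)) (hE : E ≤ l34_Ub F)
    (h2 : ∀ x ∈ E, x ^ 2 = 1) (hc : Nat.card E = 16) : E = l34_Ab F ∨ E = l34_Bb F := by
  have hun : ∀ g ∈ E, g ∈ l34_Ab F ∨ g ∈ l34_Bb F :=
    fun g hg => l34_Ub_invol hF g (hE hg) (h2 g hg)
  rcases l34_le_or_le_of_subset_union E _ _ hun with h | h
  · left
    apply Subgroup.eq_of_le_of_card_ge h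
    rw [hc]
    exact l34_card_Ab_le hF
  · right
    apply Subgroup.eq_of_le_of_card_ge h
    rw [hc]
    exact l34_card_Bb_le hF

end Cfsg.Agent.L34C
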