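import Mathlib
import Cfsg.Agent.L34C.MatU

/-!
# L34C (S3154): from the hypotheses of the statement to a central extension
`ψ : X → PSL(3, 4)` for which `H`, `K` are the full preimages of `Āb`, `B̄b`
-/

set_option autoImplicit false

namespace Cfsg.Agent.L34C

open Matrix

variable {F : Type*} [Field F] [Fintype F]

theorem l34_bridge {X : Type*} [Group X] [Finite X] (hF : Fintype.card F = 4)
    (φ : (X ⧸ Subgroup.center X) ≃* Matrix.ProjectiveSpecialLinearGroup (Fin 3) F)
    (T : Sylow 2 X) (H K : Subgroup X) (hHK : H ≠ K) (hHT : H ≤ T) (hKT : K ≤ T)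
    (hZH : Subgroup.center X ≤ H) (hZK : Subgroup.center X ≤ K)
    (hH2 : ∀ x ∈ H.map (QuotientGroup.mk' (Subgroup.center X)), x ^ 2 = 1)
    (hHc : Nat.card ↥(H.map (QuotientGroup.mk' (Subgroup.center X))) = 16)
    (hK2 : ∀ x ∈ K.map (QuotientGroup.mk' (Subgroup.center X)), x ^ 2 = 1)
    (hKc : Nat.card ↥(K.map (QuotientGroup.mk' (Subgroup.center X))) = 16) :
    ∃ ψ : X →* Matrix.ProjectiveSpecialLinearGroup (Fin 3) F, Function.Surjective ψ ∧
      ψ.ker = Subgroup.center X ∧
      ((H = (l34_Ab F).comap ψ ∧ K = (l34_Bb F).comap ψ) ∨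
        (H = (l34_Bb F).comap ψ ∧ K = (l34_Ab F).comap ψ)) := by
  have : Fact (Nat.Prime 2) := ⟨Nat.prime_two⟩
  set q : X →* X ⧸ Subgroup.center X := QuotientGroup.mk' (Subgroup.center X) with hq
  have hqs : Function.Surjective q := QuotientGroup.mk'_surjective _
  set ψ₀ : X →* Matrix.ProjectiveSpecialLinearGroup (Fin 3) F := φ.toMonoidHom.comp q with hψ₀
  have hψ₀s : Function.Surjective ψ₀ := φ.surjective.comp hqs
  -- the image of `T` is a Sylow subgroup, conjugate to `Ū`
  let T₀ : Sylow 2 (Matrix.ProjectiveSpecialLinearGroup (Fin 3) F) := T.mapSurjective hψ₀s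
  have hT₀ : (T₀ : Subgroup (Matrix.ProjectiveSpecialLinearGroup (Fin 3) F)) =
      (T : Subgroup X).map ψ₀ := Sylow.coe_mapSurjective hψ₀s T
  obtain ⟨P, hP⟩ := l34_Ub_sylow hF
  obtain ⟨g, hg⟩ := MulAction.exists_smul_eq
    (Matrix.ProjectiveSpecialLinearGroup (Fin 3) F) T₀ P
  -- the isomorphism `X / Z ≃ PSL(3, F)`, adjusted by conjugation
  set e : (X ⧸ Subgroup.center X) ≃* Matrix.ProjectiveSpecialLinearGroup (Fin 3) F :=
    φ.trans (MulAut.conj g) with he
  set ψ : X →* Matrix.ProjectiveSpecialLinearGroup (Fin 3) F := e.toMonoidHom.comp q with hψ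
  have hψs : Function.Surjective ψ := e.surjective.comp hqs
  have hψapp : ∀ x : X, ψ x = g * ψ₀ x * g⁻¹ := fun x => rfl
  have hker : ψ.ker = Subgroup.center X := by
    ext x
    rw [MonoidHom.mem_ker, hψ, MonoidHom.comp_apply]
    constructor
    · intro h
      have h1 : q x = 1 := e.injective (by rw [map_one]; exact h)
      have h2 : x ∈ q.ker := h1
      rwa [hq, QuotientGroup.ker_mk'] at h2
    · intro h
      have h2 : x ∈ q.ker := by rw [hq, QuotientGroup.ker_mk']; exact h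
      have h1 : q x = 1 := h2
      rw [h1]
      exact map_one _
  -- images of subgroups of `T` lie in `Ū`
  have hTU : ∀ S : Subgroup X, S ≤ T → S.map ψ ≤ l34_Ub F := by
    rintro S hS _ ⟨x, hx, rfl⟩
    rw [hψapp, ← hP, ← hg, Sylow.coe_subgroup_smul]
    apply Subgroup.smul_mem_pointwise_smul _ (MulAut.conj g)
    rw [hT₀]
    exact ⟨x, hS hx, rfl⟩
  -- the images of `H`, `K`
  have hmap : ∀ S : Subgroup X, S.map ψ = (S.map q).map e.toMonoidHom := by
    intro S
    rw [hψ, Subgroup.map_map]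
  have hexp : ∀ S : Subgroup X, (∀ x ∈ S.map q, x ^ 2 = 1) → ∀ y ∈ S.map ψ, y ^ 2 = 1 := by
    intro S hS y hy
    rw [hmap] at hy
    obtain ⟨x, hx, rfl⟩ := hy
    rw [← map_pow, hS x hx, map_one]
  have hcard : ∀ S : Subgroup X, Nat.card ↥(S.map ψ) = Nat.card ↥(S.map q) := by
    intro S
    rw [hmap]
    exact Subgroup.card_map_of_injective e.injective
  have hback : ∀ S : Subgroup X, Subgroup.center X ≤ S → S = (S.map ψ).comap ψ := by
    intro S hS
    rw [Subgroup.comap_map_eq, hker]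
    exact (sup_eq_left.mpr hS).symm
  have hHE := l34_exp_two_Ub hF (H.map ψ) (hTU H hHT) (hexp H hH2) (by rw [hcard, hHc])
  have hKE := l34_exp_two_Ub hF (K.map ψ) (hTU K hKT) (hexp K hK2) (by rw [hcard, hKc])
  refine ⟨ψ, hψs, hker, ?_⟩
  have hH' := hback H hZH
  have hK' := hback K hZK
  rcases hHE with h1 | h1 <;> rcases hKE with h2 | h2
  · exfalso
    apply hHK
    rw [hH', hK', h1, h2]
  · left
    exact ⟨by rw [← h1]; exact hH', by rw [← h2]; exact hK'⟩
  · right
    exact ⟨by rw [← h1]; exact hH', by rw [← h2]; exact hK'⟩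
  · exfalso
    apply hHK
    rw [hH', hK', h1, h2]

end Cfsg.Agent.L34C
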