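import Mathlib
import Cfsg.Agent.L34C.Quot
import Cfsg.Agent.L34C.M23

/-!
# L34C (S3154), package MN: fusion in and normalisers of `Āb`, `B̄b` in `PSL(3, F)`, `|F| = 4`

`N(A)` is the stabiliser of the line `F e₀` (first column `(d, 0, 0)ᵀ`), `N(B)` the stabiliser of
the plane `⟨e₀, e₁⟩` (last row `(0, 0, d)`); since `d ^ 3 = 1` for `|F| = 4`, such a matrix is
`a * diag(1, M) * (d • 1)` resp. `b * diag(M, 1) * (d • 1)`.
-/

set_option autoImplicit false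
set_option linter.style.haveILetI false
set_option linter.unusedVariables false
set_option linter.unusedSimpArgs false

namespace Cfsg.Agent.L34C

open Matrix

variable {F : Type*} [Field F]

/-! ### scalars -/

/-- the scalar matrix `d • 1` as an element of `SL(3, F)`, `d ^ 3 = 1` -/
def l34_mn_sc (d : F) (hd : d ^ 3 = 1) : Matrix.SpecialLinearGroup (Fin 3) F :=
  ⟨!![d, 0, 0; 0, d, 0; 0, 0, d], by
    rw [Matrix.det_fin_three]
    simp
    linear_combination hd⟩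

theorem l34_mn_sc_val (d : F) (hd : d ^ 3 = 1) :
    (l34_mn_sc d hd : Matrix (Fin 3) (Fin 3) F) = !![d, 0, 0; 0, d, 0; 0, 0, d] := rfl

theorem l34_mn_sc_mem_center (d : F) (hd : d ^ 3 = 1) :
    l34_mn_sc d hd ∈ Subgroup.center (Matrix.SpecialLinearGroup (Fin 3) F) := by
  rw [Subgroup.mem_center_iff]
  intro g
  apply Matrix.SpecialLinearGroup.ext
  intro i j
  rw [Matrix.SpecialLinearGroup.coe_mul, Matrix.SpecialLinearGroup.coe_mul, l34_mn_sc_val]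
  fin_cases i <;> fin_cases j <;>
    simp [Matrix.mul_apply, Fin.sum_univ_three, mul_comm]

theorem l34_mn_pi_sc (d : F) (hd : d ^ 3 = 1) : l34_pi F (l34_mn_sc d hd) = 1 :=
  l34_pi_eq_one_iff.mpr (l34_mn_sc_mem_center d hd)

/-! ### the Levi complements act on `A`, `B` -/

theorem l34_mn_iA_conj (M : Matrix.SpecialLinearGroup (Fin 2) F) (a c : F) :
    l34_u a 0 c * l34_iA M =
      l34_iA M * l34_u (a * (M : Matrix (Fin 2) (Fin 2) F) 0 0 + c * (M : Matrix (Fin 2) (Fin 2) F) 1 0)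
        0 (a * (M : Matrix (Fin 2) (Fin 2) F) 0 1 + c * (M : Matrix (Fin 2) (Fin 2) F) 1 1) := by
  apply Matrix.SpecialLinearGroup.ext
  intro i j
  rw [Matrix.SpecialLinearGroup.coe_mul, Matrix.SpecialLinearGroup.coe_mul, l34_u_val, l34_u_val,
    l34_iA_val]
  fin_cases i <;> fin_cases j <;>
    simp [Matrix.mul_apply, Fin.sum_univ_three]

theorem l34_mn_iB_conj (M : Matrix.SpecialLinearGroup (Fin 2) F) (b c : F) :
    l34_iB M * l34_u 0 b c =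
      l34_u 0 ((M : Matrix (Fin 2) (Fin 2) F) 1 0 * c + (M : Matrix (Fin 2) (Fin 2) F) 1 1 * b)
        ((M : Matrix (Fin 2) (Fin 2) F) 0 0 * c + (M : Matrix (Fin 2) (Fin 2) F) 0 1 * b) *
        l34_iB M := by
  apply Matrix.SpecialLinearGroup.ext
  intro i j
  rw [Matrix.SpecialLinearGroup.coe_mul, Matrix.SpecialLinearGroup.coe_mul, l34_u_val, l34_u_val,
    l34_iB_val]
  fin_cases i <;> fin_cases j <;>
    simp [Matrix.mul_apply, Fin.sum_univ_three]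

/-- a matrix of determinant one with prescribed non-zero first row -/
theorem l34_mn_row (a c : F) (h : a ≠ 0 ∨ c ≠ 0) :
    ∃ M : Matrix.SpecialLinearGroup (Fin 2) F,
      (M : Matrix (Fin 2) (Fin 2) F) 0 0 = a ∧ (M : Matrix (Fin 2) (Fin 2) F) 0 1 = c := by
  by_cases ha : a = 0
  · have hc : c ≠ 0 := by
      rcases h with h | h
      · exact absurd ha h
      · exact h
    refine ⟨⟨!![a, c; -c⁻¹, 0], ?_⟩, rfl, rfl⟩
    rw [Matrix.det_fin_two]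
    simp [hc]
  · refine ⟨⟨!![a, c; 0, a⁻¹], ?_⟩, rfl, rfl⟩
    rw [Matrix.det_fin_two]
    simp [ha]

/-- a matrix of determinant one with prescribed non-zero first column -/
theorem l34_mn_col (b c : F) (h : b ≠ 0 ∨ c ≠ 0) :
    ∃ M : Matrix.SpecialLinearGroup (Fin 2) F,
      (M : Matrix (Fin 2) (Fin 2) F) 0 0 = c ∧ (M : Matrix (Fin 2) (Fin 2) F) 1 0 = b := by
  by_cases hc : c = 0
  · have hb : b ≠ 0 := by
      rcases h with h | h
      · exact h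
      · exact absurd hc h
    refine ⟨⟨!![c, -b⁻¹; b, 0], ?_⟩, rfl, rfl⟩
    rw [Matrix.det_fin_two]
    simp [hb]
  · refine ⟨⟨!![c, 0; b, c⁻¹], ?_⟩, rfl, rfl⟩
    rw [Matrix.det_fin_two]
    simp [hc]

/-- every non-identity element of `A` is conjugate to `u 1 0 0` under the Levi complement -/
theorem l34_mn_A_conj_std (a c : F) (h : a ≠ 0 ∨ c ≠ 0) :
    ∃ M : Matrix.SpecialLinearGroup (Fin 2) F,
      (l34_iA M)⁻¹ * l34_u 1 0 0 * ((l34_iA M)⁻¹)⁻¹ = l34_u a 0 c := by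
  obtain ⟨M, h00, h01⟩ := l34_mn_row a c h
  refine ⟨M, ?_⟩
  rw [inv_inv, mul_assoc, l34_mn_iA_conj, h00, h01, inv_mul_cancel_left]
  congr 1 <;> ring

/-- every non-identity element of `B` is conjugate to `u 0 0 1` under the Levi complement -/
theorem l34_mn_B_conj_std (b c : F) (h : b ≠ 0 ∨ c ≠ 0) :
    ∃ M : Matrix.SpecialLinearGroup (Fin 2) F,
      l34_iB M * l34_u 0 0 1 * (l34_iB M)⁻¹ = l34_u 0 b c := by
  obtain ⟨M, h00, h10⟩ := l34_mn_col b c h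
  refine ⟨M, ?_⟩
  rw [l34_mn_iB_conj, h00, h10, mul_inv_cancel_right]
  congr 1 <;> ring

/-! ### first column / last row -/

/-- an element conjugating `u 1 0 0` into `A` stabilises the line `F e₀` -/
theorem l34_mn_colA (g : Matrix.SpecialLinearGroup (Fin 3) F)
    (hg : g * l34_u 1 0 0 * g⁻¹ ∈ l34_A F) :
    (g : Matrix (Fin 3) (Fin 3) F) 1 0 = 0 ∧ (g : Matrix (Fin 3) (Fin 3) F) 2 0 = 0 := by
  obtain ⟨a, c, hac⟩ := hg
  have h1 : g * l34_u 1 0 0 = l34_u a 0 c * g := by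
    rw [← hac]
    group
  have h2 := congrArg (fun x : Matrix.SpecialLinearGroup (Fin 3) F =>
    (x : Matrix (Fin 3) (Fin 3) F)) h1
  simp only [Matrix.SpecialLinearGroup.coe_mul, l34_u_val] at h2
  have e11 := congrFun (congrFun h2 1) 1
  have e21 := congrFun (congrFun h2 2) 1
  simp [Matrix.mul_apply, Fin.sum_univ_three] at e11 e21
  exact ⟨e11, e21⟩

/-- an element whose inverse conjugates `u 0 1 0` into `B` stabilises the plane `⟨e₀, e₁⟩` -/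
theorem l34_mn_rowB (g : Matrix.SpecialLinearGroup (Fin 3) F)
    (hg : g⁻¹ * l34_u 0 1 0 * g ∈ l34_B F) :
    (g : Matrix (Fin 3) (Fin 3) F) 2 0 = 0 ∧ (g : Matrix (Fin 3) (Fin 3) F) 2 1 = 0 := by
  obtain ⟨b, c, hbc⟩ := hg
  have h1 : l34_u 0 1 0 * g = g * l34_u 0 b c := by
    rw [← hbc]
    group
  have h2 := congrArg (fun x : Matrix.SpecialLinearGroup (Fin 3) F =>
    (x : Matrix (Fin 3) (Fin 3) F)) h1
  simp only [Matrix.SpecialLinearGroup.coe_mul, l34_u_val] at h2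
  have e10 := congrFun (congrFun h2 1) 0
  have e11 := congrFun (congrFun h2 1) 1
  simp [Matrix.mul_apply, Fin.sum_univ_three] at e10 e11
  exact ⟨e10, e11⟩

/-- decomposition of the stabiliser of the line `F e₀` -/
theorem l34_mn_decompA (g : Matrix.SpecialLinearGroup (Fin 3) F)
    (h10 : (g : Matrix (Fin 3) (Fin 3) F) 1 0 = 0) (h20 : (g : Matrix (Fin 3) (Fin 3) F) 2 0 = 0)
    (hd : ((g : Matrix (Fin 3) (Fin 3) F) 0 0) ^ 3 = 1) :
    ∃ (a c : F) (M : Matrix.SpecialLinearGroup (Fin 2) F),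
      g = l34_u a 0 c * l34_iA M * l34_mn_sc ((g : Matrix (Fin 3) (Fin 3) F) 0 0) hd := by
  have hdet := g.det_coe
  rw [Matrix.det_fin_three, h10, h20] at hdet
  obtain ⟨A, hA⟩ : ∃ A : Matrix (Fin 3) (Fin 3) F, A = (g : Matrix (Fin 3) (Fin 3) F) := ⟨_, rfl⟩
  rw [← hA] at hdet h10 h20
  have hdA : A 0 0 ^ 3 = 1 := by rw [hA]; exact hd
  have hdet' : A 0 0 * (A 1 1 * A 2 2 - A 1 2 * A 2 1) = 1 := by
    linear_combination hdet
  have hMdet : (!![(A 0 0) ^ 2 * A 1 1, (A 0 0) ^ 2 * A 1 2;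
      (A 0 0) ^ 2 * A 2 1, (A 0 0) ^ 2 * A 2 2] : Matrix (Fin 2) (Fin 2) F).det = 1 := by
    rw [Matrix.det_fin_two]
    simp only [Matrix.of_apply, Matrix.cons_val', Matrix.cons_val_zero, Matrix.cons_val_one,
      Matrix.cons_val_fin_one]
    linear_combination ((A 0 0) ^ 3) * hdet' + hdA
  obtain ⟨M, hM⟩ : ∃ M : Matrix.SpecialLinearGroup (Fin 2) F,
      (M : Matrix (Fin 2) (Fin 2) F) = !![(A 0 0) ^ 2 * A 1 1, (A 0 0) ^ 2 * A 1 2;
      (A 0 0) ^ 2 * A 2 1, (A 0 0) ^ 2 * A 2 2] := ⟨⟨_, hMdet⟩, rfl⟩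
  refine ⟨A 0 0 * (A 0 1 * A 2 2 - A 0 2 * A 2 1), A 0 0 * (A 0 2 * A 1 1 - A 0 1 * A 1 2), M, ?_⟩
  apply Matrix.SpecialLinearGroup.ext
  intro i j
  rw [Matrix.SpecialLinearGroup.coe_mul, Matrix.SpecialLinearGroup.coe_mul, l34_u_val, l34_iA_val,
    l34_mn_sc_val, hM, ← hA]
  fin_cases i <;> fin_cases j <;>
    simp [Matrix.mul_apply, Fin.sum_univ_three, h10, h20]
  · linear_combination (-(A 0 1) * (A 0 0) ^ 3) * hdet' + (-(A 0 1)) * hdA
  · linear_combination (-(A 0 2) * (A 0 0) ^ 3) * hdet' + (-(A 0 2)) * hdA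
  · linear_combination (-(A 1 1)) * hdA
  · linear_combination (-(A 1 2)) * hdA
  · linear_combination (-(A 2 1)) * hdA
  · linear_combination (-(A 2 2)) * hdA

/-- decomposition of the stabiliser of the plane `⟨e₀, e₁⟩` -/
theorem l34_mn_decompB (g : Matrix.SpecialLinearGroup (Fin 3) F)
    (h20 : (g : Matrix (Fin 3) (Fin 3) F) 2 0 = 0) (h21 : (g : Matrix (Fin 3) (Fin 3) F) 2 1 = 0)
    (hd : ((g : Matrix (Fin 3) (Fin 3) F) 2 2) ^ 3 = 1) :
    ∃ (b c : F) (M : Matrix.SpecialLinearGroup (Fin 2) F),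
      g = l34_u 0 b c * l34_iB M * l34_mn_sc ((g : Matrix (Fin 3) (Fin 3) F) 2 2) hd := by
  have hdet := g.det_coe
  rw [Matrix.det_fin_three, h20, h21] at hdet
  obtain ⟨A, hA⟩ : ∃ A : Matrix (Fin 3) (Fin 3) F, A = (g : Matrix (Fin 3) (Fin 3) F) := ⟨_, rfl⟩
  rw [← hA] at hdet h20 h21
  have hdA : A 2 2 ^ 3 = 1 := by rw [hA]; exact hd
  have hdet' : A 2 2 * (A 0 0 * A 1 1 - A 0 1 * A 1 0) = 1 := by
    linear_combination hdet
  have hMdet : (!![(A 2 2) ^ 2 * A 0 0, (A 2 2) ^ 2 * A 0 1;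
      (A 2 2) ^ 2 * A 1 0, (A 2 2) ^ 2 * A 1 1] : Matrix (Fin 2) (Fin 2) F).det = 1 := by
    rw [Matrix.det_fin_two]
    simp only [Matrix.of_apply, Matrix.cons_val', Matrix.cons_val_zero, Matrix.cons_val_one,
      Matrix.cons_val_fin_one]
    linear_combination ((A 2 2) ^ 3) * hdet' + hdA
  obtain ⟨M, hM⟩ : ∃ M : Matrix.SpecialLinearGroup (Fin 2) F,
      (M : Matrix (Fin 2) (Fin 2) F) = !![(A 2 2) ^ 2 * A 0 0, (A 2 2) ^ 2 * A 0 1;
      (A 2 2) ^ 2 * A 1 0, (A 2 2) ^ 2 * A 1 1] := ⟨⟨_, hMdet⟩, rfl⟩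
  refine ⟨(A 2 2) ^ 2 * A 1 2, (A 2 2) ^ 2 * A 0 2, M, ?_⟩
  apply Matrix.SpecialLinearGroup.ext
  intro i j
  rw [Matrix.SpecialLinearGroup.coe_mul, Matrix.SpecialLinearGroup.coe_mul, l34_u_val, l34_iB_val,
    l34_mn_sc_val, hM, ← hA]
  fin_cases i <;> fin_cases j <;>
    simp [Matrix.mul_apply, Fin.sum_univ_three, h20, h21]
  · linear_combination (-(A 0 0)) * hdA
  · linear_combination (-(A 0 1)) * hdA
  · linear_combination (-(A 0 2)) * hdA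
  · linear_combination (-(A 1 0)) * hdA
  · linear_combination (-(A 1 1)) * hdA
  · linear_combination (-(A 1 2)) * hdA

/-! ### lifting from `PSL(3, F)` -/

/-- an involution (or `1`) of `SL(3, F)` whose image lies in `Āb` lies in `A` (characteristic 2) -/
theorem l34_mn_liftA [CharP F 2] (x : Matrix.SpecialLinearGroup (Fin 3) F) (hx : x * x = 1)
    (h : l34_pi F x ∈ l34_Ab F) : x ∈ l34_A F := by
  obtain ⟨a, c, hac⟩ := l34_mem_Ab.mp h
  obtain ⟨z, hz, hu⟩ := l34_pi_eq_iff.mp hac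
  have hzc := Subgroup.mem_center_iff.mp hz
  have h1 : l34_u a 0 c * l34_u a 0 c = 1 := by
    rw [l34_u_sq, mul_zero, l34_u_zero]
  have h2 : z ^ 2 = 1 := by
    rw [hu] at h1
    have : x * z * (x * z) = x * x * (z * z) := by
      rw [mul_assoc, ← mul_assoc z x z, ← hzc x, mul_assoc, mul_assoc]
    rw [this, hx, one_mul] at h1
    rw [pow_two]
    exact h1
  have h3 := l34_center_sq hz h2
  rw [h3, mul_one] at hu
  exact ⟨a, c, hu.symm⟩

/-- an involution (or `1`) of `SL(3, F)` whose image lies in `B̄b` lies in `B` (characteristic 2) -/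
theorem l34_mn_liftB [CharP F 2] (x : Matrix.SpecialLinearGroup (Fin 3) F) (hx : x * x = 1)
    (h : l34_pi F x ∈ l34_Bb F) : x ∈ l34_B F := by
  obtain ⟨b, c, hbc⟩ := l34_mem_Bb.mp h
  obtain ⟨z, hz, hu⟩ := l34_pi_eq_iff.mp hbc
  have hzc := Subgroup.mem_center_iff.mp hz
  have h1 : l34_u 0 b c * l34_u 0 b c = 1 := by
    rw [l34_u_sq, zero_mul, l34_u_zero]
  have h2 : z ^ 2 = 1 := by
    rw [hu] at h1
    have : x * z * (x * z) = x * x * (z * z) := by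
      rw [mul_assoc, ← mul_assoc z x z, ← hzc x, mul_assoc, mul_assoc]
    rw [this, hx, one_mul] at h1
    rw [pow_two]
    exact h1
  have h3 := l34_center_sq hz h2
  rw [h3, mul_one] at hu
  exact ⟨b, c, hu.symm⟩

theorem l34_mn_cube [Fintype F] (hF : Fintype.card F = 4) (d : F) (hd : d ≠ 0) : d ^ 3 = 1 := by
  have := FiniteField.pow_card_sub_one_eq_one d hd
  rwa [hF] at this

theorem l34_mn_fuse (x y u : Matrix.SpecialLinearGroup (Fin 3) F) :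
    l34_pi F (y * x⁻¹) * l34_pi F (x * u * x⁻¹) * (l34_pi F (y * x⁻¹))⁻¹ =
      l34_pi F (y * u * y⁻¹) := by
  rw [← map_inv (l34_pi F), ← map_mul (l34_pi F), ← map_mul (l34_pi F)]
  congr 1
  group

theorem l34_mn_conj_pi (x u v : Matrix.SpecialLinearGroup (Fin 3) F) (h : x * u * x⁻¹ = v) :
    l34_pi F x * l34_pi F u * (l34_pi F x)⁻¹ = l34_pi F v := by
  rw [← map_inv (l34_pi F), ← map_mul (l34_pi F), ← map_mul (l34_pi F), h]

/-! ### the package -/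

variable [Fintype F]

theorem l34_Ab_fused (hF : Fintype.card F = 4) :
    ∀ a ∈ l34_Ab F, a ≠ 1 → ∀ a' ∈ l34_Ab F, a' ≠ 1 →
      ∃ l : Matrix.ProjectiveSpecialLinearGroup (Fin 3) F, l * a * l⁻¹ = a' := by
  intro a ha ha1 a' ha' ha'1
  obtain ⟨a₀, c₀, rfl⟩ := l34_mem_Ab.mp ha
  obtain ⟨a₁, c₁, rfl⟩ := l34_mem_Ab.mp ha'
  have h0 : a₀ ≠ 0 ∨ c₀ ≠ 0 := by
    by_contra hcon
    push Not at hcon
    apply ha1
    rw [hcon.1, hcon.2, l34_u_zero, map_one]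
  have h1 : a₁ ≠ 0 ∨ c₁ ≠ 0 := by
    by_contra hcon
    push Not at hcon
    apply ha'1
    rw [hcon.1, hcon.2, l34_u_zero, map_one]
  obtain ⟨M, hM⟩ := l34_mn_A_conj_std a₀ c₀ h0
  obtain ⟨M', hM'⟩ := l34_mn_A_conj_std a₁ c₁ h1
  refine ⟨l34_pi F ((l34_iA M')⁻¹ * ((l34_iA M)⁻¹)⁻¹), ?_⟩
  rw [← hM, ← hM']
  exact l34_mn_fuse _ _ _

theorem l34_Bb_fused (hF : Fintype.card F = 4) :
    ∀ a ∈ l34_Bb F, a ≠ 1 → ∀ a' ∈ l34_Bb F, a' ≠ 1 →
      ∃ l : Matrix.ProjectiveSpecialLinearGroup (Fin 3) F, l * a * l⁻¹ = a' := by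
  intro a ha ha1 a' ha' ha'1
  obtain ⟨b₀, c₀, rfl⟩ := l34_mem_Bb.mp ha
  obtain ⟨b₁, c₁, rfl⟩ := l34_mem_Bb.mp ha'
  have h0 : b₀ ≠ 0 ∨ c₀ ≠ 0 := by
    by_contra hcon
    push Not at hcon
    apply ha1
    rw [hcon.1, hcon.2, l34_u_zero, map_one]
  have h1 : b₁ ≠ 0 ∨ c₁ ≠ 0 := by
    by_contra hcon
    push Not at hcon
    apply ha'1
    rw [hcon.1, hcon.2, l34_u_zero, map_one]
  obtain ⟨M, hM⟩ := l34_mn_B_conj_std b₀ c₀ h0
  obtain ⟨M', hM'⟩ := l34_mn_B_conj_std b₁ c₁ h1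
  refine ⟨l34_pi F (l34_iB M' * (l34_iB M)⁻¹), ?_⟩
  rw [← hM, ← hM']
  exact l34_mn_fuse _ _ _

theorem l34_LA_le_norm (hF : Fintype.card F = 4) :
    l34_LA F ≤ Subgroup.normalizer (l34_Ab F : Set (Matrix.ProjectiveSpecialLinearGroup (Fin 3) F)) := by
  rw [Subgroup.le_normalizer_iff]
  intro l hl k hk
  obtain ⟨M, rfl⟩ := l34_mem_LA.mp hl
  obtain ⟨a, c, rfl⟩ := l34_mem_Ab.mp hk
  have h : l34_iA M * l34_u a 0 c * (l34_iA M)⁻¹ =
      l34_u (a * (M⁻¹ : Matrix.SpecialLinearGroup (Fin 2) F).1 0 0 +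
        c * (M⁻¹ : Matrix.SpecialLinearGroup (Fin 2) F).1 1 0) 0
        (a * (M⁻¹ : Matrix.SpecialLinearGroup (Fin 2) F).1 0 1 +
        c * (M⁻¹ : Matrix.SpecialLinearGroup (Fin 2) F).1 1 1) := by
    rw [← map_inv l34_iA M, mul_assoc, l34_mn_iA_conj M⁻¹ a c, ← mul_assoc, ← map_mul,
      mul_inv_cancel, map_one, one_mul]
  rw [l34_mn_conj_pi _ _ _ h]
  exact l34_mem_Ab.mpr ⟨_, _, rfl⟩

theorem l34_LB_le_norm (hF : Fintype.card F = 4) :
    l34_LB F ≤ Subgroup.normalizer (l34_Bb F : Set (Matrix.ProjectiveSpecialLinearGroup (Fin 3) F)) := by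
  rw [Subgroup.le_normalizer_iff]
  intro l hl k hk
  obtain ⟨M, rfl⟩ := l34_mem_LB.mp hl
  obtain ⟨b, c, rfl⟩ := l34_mem_Bb.mp hk
  have h : l34_iB M * l34_u 0 b c * (l34_iB M)⁻¹ =
      l34_u 0 ((M : Matrix (Fin 2) (Fin 2) F) 1 0 * c + (M : Matrix (Fin 2) (Fin 2) F) 1 1 * b)
        ((M : Matrix (Fin 2) (Fin 2) F) 0 0 * c + (M : Matrix (Fin 2) (Fin 2) F) 0 1 * b) := by
    rw [l34_mn_iB_conj M b c, mul_inv_cancel_right]
  rw [l34_mn_conj_pi _ _ _ h]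
  exact l34_mem_Bb.mpr ⟨_, _, rfl⟩

theorem l34_norm_Ab (hF : Fintype.card F = 4) :
    ∀ n ∈ Subgroup.normalizer (l34_Ab F : Set (Matrix.ProjectiveSpecialLinearGroup (Fin 3) F)),
      ∃ a ∈ l34_Ab F, ∃ l ∈ l34_LA F, n = a * l := by
  haveI := l34_charTwo_of_card hF
  intro n hn
  obtain ⟨g, rfl⟩ := l34_pi_surjective n
  have hu : l34_pi F (l34_u 1 0 0) ∈ l34_Ab F := l34_mem_Ab.mpr ⟨1, 0, rfl⟩
  have h1 := (Subgroup.mem_normalizer_iff.mp hn _).mp hu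
  rw [← map_inv, ← map_mul, ← map_mul] at h1
  have hsq : g * l34_u 1 0 0 * g⁻¹ * (g * l34_u 1 0 0 * g⁻¹) = 1 := by
    have : g * l34_u 1 0 0 * g⁻¹ * (g * l34_u 1 0 0 * g⁻¹) =
        g * (l34_u 1 0 0 * l34_u 1 0 0) * g⁻¹ := by group
    rw [this, l34_u_sq, mul_zero, l34_u_zero, mul_one, mul_inv_cancel]
  have h2 := l34_mn_liftA _ hsq h1
  obtain ⟨h10, h20⟩ := l34_mn_colA g h2
  have hd0 : (g : Matrix (Fin 3) (Fin 3) F) 0 0 ≠ 0 := by
    intro h0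
    have hdet := g.det_coe
    rw [Matrix.det_fin_three, h10, h20, h0] at hdet
    simp at hdet
  have hd := l34_mn_cube hF _ hd0
  obtain ⟨a, c, M, hg⟩ := l34_mn_decompA g h10 h20 hd
  refine ⟨l34_pi F (l34_u a 0 c), l34_mem_Ab.mpr ⟨a, c, rfl⟩, l34_pi F (l34_iA M),
    l34_mem_LA.mpr ⟨M, rfl⟩, ?_⟩
  conv_lhs => rw [hg]
  rw [map_mul, map_mul, l34_mn_pi_sc, mul_one]

theorem l34_norm_Bb (hF : Fintype.card F = 4) :
    ∀ n ∈ Subgroup.normalizer (l34_Bb F : Set (Matrix.ProjectiveSpecialLinearGroup (Fin 3) F)),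
      ∃ a ∈ l34_Bb F, ∃ l ∈ l34_LB F, n = a * l := by
  haveI := l34_charTwo_of_card hF
  intro n hn
  obtain ⟨g, rfl⟩ := l34_pi_surjective n
  have hu : l34_pi F (l34_u 0 1 0) ∈ l34_Bb F := l34_mem_Bb.mpr ⟨1, 0, rfl⟩
  have hn' := Subgroup.inv_mem _ hn
  have h1 := (Subgroup.mem_normalizer_iff.mp hn' _).mp hu
  rw [inv_inv, ← map_inv, ← map_mul, ← map_mul] at h1
  have hsq : g⁻¹ * l34_u 0 1 0 * g * (g⁻¹ * l34_u 0 1 0 * g) = 1 := by
    have : g⁻¹ * l34_u 0 1 0 * g * (g⁻¹ * l34_u 0 1 0 * g) =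
        g⁻¹ * (l34_u 0 1 0 * l34_u 0 1 0) * g := by group
    rw [this, l34_u_sq, zero_mul, l34_u_zero, mul_one, inv_mul_cancel]
  have h2 := l34_mn_liftB _ hsq h1
  obtain ⟨h20, h21⟩ := l34_mn_rowB g h2
  have hd0 : (g : Matrix (Fin 3) (Fin 3) F) 2 2 ≠ 0 := by
    intro h0
    have hdet := g.det_coe
    rw [Matrix.det_fin_three, h20, h21, h0] at hdet
    simp at hdet
  have hd := l34_mn_cube hF _ hd0
  obtain ⟨b, c, M, hg⟩ := l34_mn_decompB g h20 h21 hd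
  refine ⟨l34_pi F (l34_u 0 b c), l34_mem_Bb.mpr ⟨b, c, rfl⟩, l34_pi F (l34_iB M),
    l34_mem_LB.mpr ⟨M, rfl⟩, ?_⟩
  conv_lhs => rw [hg]
  rw [map_mul, map_mul, l34_mn_pi_sc, mul_one]

theorem l34_Ab_inf_LA (hF : Fintype.card F = 4) : l34_Ab F ⊓ l34_LA F = ⊥ := by
  rw [eq_bot_iff]
  rintro y ⟨hA, hL⟩
  obtain ⟨a, c, rfl⟩ := l34_mem_Ab.mp hA
  obtain ⟨M, hM⟩ := l34_mem_LA.mp hL
  obtain ⟨z, hz, hu⟩ := l34_pi_eq_iff.mp hM
  obtain ⟨r, -, hr⟩ := l34_center_scalar hz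
  have h2 := congrArg (fun x : Matrix.SpecialLinearGroup (Fin 3) F =>
    (x : Matrix (Fin 3) (Fin 3) F)) hu
  simp only [Matrix.SpecialLinearGroup.coe_mul, l34_u_val, l34_iA_val, hr] at h2
  have e00 := congrFun (congrFun h2 0) 0
  have e01 := congrFun (congrFun h2 0) 1
  have e02 := congrFun (congrFun h2 0) 2
  simp [Matrix.mul_apply, Fin.sum_univ_three, Matrix.one_apply] at e00 e01 e02
  rw [Subgroup.mem_bot]
  have hr1 : r = 1 := e00.symm
  rw [hr1] at e01 e02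
  have ha : a = 0 := by simpa using e01.symm
  have hc : c = 0 := by simpa using e02.symm
  rw [ha, hc, l34_u_zero, map_one]

theorem l34_Bb_inf_LB (hF : Fintype.card F = 4) : l34_Bb F ⊓ l34_LB F = ⊥ := by
  rw [eq_bot_iff]
  rintro y ⟨hB, hL⟩
  obtain ⟨b, c, rfl⟩ := l34_mem_Bb.mp hB
  obtain ⟨M, hM⟩ := l34_mem_LB.mp hL
  obtain ⟨z, hz, hu⟩ := l34_pi_eq_iff.mp hM
  obtain ⟨r, -, hr⟩ := l34_center_scalar hz
  have h2 := congrArg (fun x : Matrix.SpecialLinearGroup (Fin 3) F =>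
    (x : Matrix (Fin 3) (Fin 3) F)) hu
  simp only [Matrix.SpecialLinearGroup.coe_mul, l34_u_val, l34_iB_val, hr] at h2
  have e22 := congrFun (congrFun h2 2) 2
  have e12 := congrFun (congrFun h2 1) 2
  have e02 := congrFun (congrFun h2 0) 2
  simp [Matrix.mul_apply, Fin.sum_univ_three, Matrix.one_apply] at e22 e12 e02
  rw [Subgroup.mem_bot]
  have hr1 : r = 1 := e22.symm
  rw [hr1] at e12 e02
  have hb : b = 0 := by simpa using e12.symm
  have hc : c = 0 := by simpa using e02.symm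
  rw [hb, hc, l34_u_zero, map_one]

end Cfsg.Agent.L34C
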