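import Mathlib
import Cfsg.Agent.L34C.Quot
import Cfsg.Agent.L34C.M23
import Cfsg.Agent.S0252

/-!
# L34C (S3154), package MS: the Levi complements `LA`, `LB` of `PSL(3, 4)`

`LA`, `LB` are isomorphic to `SL(2, F) ≃ PSL(2, F) ≃ A₅` (`|F| = 4`): they are perfect and their
2-elements are involutions.
-/

set_option autoImplicit false

namespace Cfsg.Agent.L34C

open Matrix

variable {F : Type*} [Field F]

/-! ### `SL(2, F)` in characteristic two -/

/-- Cayley–Hamilton for `SL(2, F)` in characteristic two -/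
theorem l34_ms_CH [CharP F 2] (K : Matrix.SpecialLinearGroup (Fin 2) F) :
    (K : Matrix (Fin 2) (Fin 2) F) * (K : Matrix (Fin 2) (Fin 2) F) =
      ((K : Matrix (Fin 2) (Fin 2) F) 0 0 + (K : Matrix (Fin 2) (Fin 2) F) 1 1) •
        (K : Matrix (Fin 2) (Fin 2) F) + 1 := by
  have hdet := K.2
  rw [Matrix.det_fin_two] at hdet
  have h2 : (2 : F) = 0 := CharTwo.two_eq_zero
  ext i j
  fin_cases i <;> fin_cases j <;>
    simp [Matrix.mul_apply, Fin.sum_univ_two, Matrix.add_apply, Matrix.smul_apply]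
  · linear_combination hdet + ((K : Matrix (Fin 2) (Fin 2) F) 0 1 * (K : Matrix (Fin 2) (Fin 2) F) 1 0 -
      (K : Matrix (Fin 2) (Fin 2) F) 0 0 * (K : Matrix (Fin 2) (Fin 2) F) 1 1) * h2
  · ring
  · ring
  · linear_combination hdet + ((K : Matrix (Fin 2) (Fin 2) F) 0 1 * (K : Matrix (Fin 2) (Fin 2) F) 1 0 -
      (K : Matrix (Fin 2) (Fin 2) F) 0 0 * (K : Matrix (Fin 2) (Fin 2) F) 1 1) * h2

/-- an element of `SL(2, F)`, `char F = 2`, of order dividing four has order dividing two -/
theorem l34_ms_four [CharP F 2] (K : Matrix.SpecialLinearGroup (Fin 2) F) (h4 : K ^ 4 = 1) :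
    K ^ 2 = 1 := by
  obtain ⟨A, hA⟩ : ∃ A : Matrix (Fin 2) (Fin 2) F, A = (K : Matrix (Fin 2) (Fin 2) F) := ⟨_, rfl⟩
  obtain ⟨t, ht⟩ : ∃ t : F, t = A 0 0 + A 1 1 := ⟨_, rfl⟩
  have hCH : A * A = t • A + 1 := by
    rw [ht, hA]
    exact l34_ms_CH K
  have h2 : (2 : F) = 0 := CharTwo.two_eq_zero
  have hA4 : (A * A) * (A * A) = 1 := by
    have := congrArg (fun g : Matrix.SpecialLinearGroup (Fin 2) F => (g : Matrix (Fin 2) (Fin 2) F)) h4
    simp only [Matrix.SpecialLinearGroup.coe_pow, Matrix.SpecialLinearGroup.coe_one] at this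
    rw [← hA] at this
    rw [← this]
    noncomm_ring
  have hdetAA : (A * A).det = 1 := by
    rw [Matrix.det_mul, hA, K.2, mul_one]
  have hkey : (t * t) • (A * A) = 0 := by
    have e : (A * A) * (A * A) = (t * t) • (A * A) + (2 * t) • A + 1 := by
      conv_lhs => rw [hCH]
      rw [Matrix.add_mul, Matrix.mul_add, Matrix.mul_add, Matrix.smul_mul, Matrix.mul_smul,
        Matrix.smul_mul, Matrix.mul_one, Matrix.one_mul, Matrix.mul_one, smul_smul]
      rw [two_mul, add_smul]
      abel
    rw [e, h2, zero_mul, zero_smul, add_zero] at hA4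
    exact add_eq_right.mp hA4
  have ht0 : t = 0 := by
    rcases smul_eq_zero.mp hkey with h | h
    · rcases mul_eq_zero.mp h with h | h <;> exact h
    · exfalso
      rw [h, Matrix.det_zero] at hdetAA
      exact zero_ne_one hdetAA
  apply Subtype.ext
  rw [Matrix.SpecialLinearGroup.coe_pow, Matrix.SpecialLinearGroup.coe_one, ← hA, pow_two, hCH,
    ht0, zero_smul, zero_add]

/-- the 2-elements of `SL(2, F)`, `char F = 2`, are involutions -/
theorem l34_ms_two_pow [CharP F 2] (n : ℕ) :
    ∀ K : Matrix.SpecialLinearGroup (Fin 2) F, K ^ 2 ^ n = 1 → K ^ 2 = 1 := by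
  induction n with
  | zero =>
    intro K h
    rw [pow_zero, pow_one] at h
    rw [h, one_pow]
  | succ n ih =>
    intro K h
    rcases Nat.eq_zero_or_pos n with h0 | hpos
    · subst h0
      simpa using h
    · obtain ⟨m, rfl⟩ : ∃ m, n = m + 1 := ⟨n - 1, by omega⟩
      apply ih
      have h4 : (K ^ 2 ^ m) ^ 4 = 1 := by
        rw [← pow_mul, show 2 ^ m * 4 = 2 ^ (m + 1 + 1) by ring]
        exact h
      have := l34_ms_four _ h4
      rw [← pow_mul, show 2 ^ m * 2 = 2 ^ (m + 1) by ring] at this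
      exact this

/-- the centre of `SL(2, F)` is trivial in characteristic two -/
theorem l34_ms_center [CharP F 2] :
    Subgroup.center (Matrix.SpecialLinearGroup (Fin 2) F) = ⊥ := by
  rw [eq_bot_iff]
  intro z hz
  obtain ⟨r, hr, h⟩ := Matrix.SpecialLinearGroup.mem_center_iff.mp hz
  rw [Fintype.card_fin] at hr
  have h2 : (2 : F) = 0 := CharTwo.two_eq_zero
  have hr1 : r = 1 := by
    have : (r - 1) * (r - 1) = 0 := by linear_combination hr - r * h2 + h2
    rcases mul_eq_zero.mp this with h' | h' <;> exact sub_eq_zero.mp h'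
  rw [Subgroup.mem_bot]
  apply Subtype.ext
  rw [← h, hr1, map_one, Matrix.SpecialLinearGroup.coe_one]

/-- `PSL(2, F) ≃ SL(2, F)` in characteristic two -/
noncomputable def l34_ms_pslEquiv [CharP F 2] :
    Matrix.ProjectiveSpecialLinearGroup (Fin 2) F ≃* Matrix.SpecialLinearGroup (Fin 2) F :=
  (QuotientGroup.quotientMulEquivOfEq l34_ms_center).trans QuotientGroup.quotientBot

/-- `commutator` is transported by isomorphisms -/
theorem l34_ms_perfect_of_equiv {G H : Type*} [Group G] [Group H] (e : G ≃* H)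
    (h : commutator H = ⊤) : commutator G = ⊤ := by
  have h1 : (commutator G).map e.toMonoidHom = commutator H := by
    rw [commutator_def, commutator_def, Subgroup.map_commutator,
      Subgroup.map_top_of_surjective _ e.surjective]
  have h2 : (⊤ : Subgroup G).map e.toMonoidHom = ⊤ := Subgroup.map_top_of_surjective _ e.surjective
  apply Subgroup.map_injective (show Function.Injective e.toMonoidHom from e.injective)
  rw [h1, h, h2]

theorem l34_ms_SL2_perfect [Fintype F] (hF : Fintype.card F = 4) :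
    commutator (Matrix.SpecialLinearGroup (Fin 2) F) = ⊤ := by
  haveI := l34_charTwo_of_card hF
  obtain ⟨e⟩ := Cfsg.Agent.S0252.result hF
  have h5 : commutator (alternatingGroup (Fin 5)) = ⊤ :=
    commutator_alternatingGroup_eq_top (by simp)
  exact l34_ms_perfect_of_equiv ((l34_ms_pslEquiv (F := F)).symm.trans e) h5

/-! ### generic statements for an embedding of `SL(2, F)` -/

section generic

variable {G : Type*} [Group G] (ψ : Matrix.SpecialLinearGroup (Fin 2) F →* G)

theorem l34_ms_gen_two_sq [CharP F 2] (hψ : Function.Injective ψ) (L : Subgroup G)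
    (hL : L = ψ.range) : ∀ l ∈ L, (∃ n : ℕ, l ^ 2 ^ n = 1) → l ^ 2 = 1 := by
  subst hL
  rintro _ ⟨K, rfl⟩ ⟨n, hn⟩
  rw [← map_pow, ← map_one ψ] at hn
  have := l34_ms_two_pow n K (hψ hn)
  rw [← map_pow, this, map_one]

theorem l34_ms_gen_equiv [CharP F 2] (hψ : Function.Injective ψ) (L : Subgroup G)
    (hL : L = ψ.range) : Nonempty (↥L ≃* Matrix.ProjectiveSpecialLinearGroup (Fin 2) F) := by
  subst hL
  exact ⟨(MonoidHom.ofInjective hψ).symm.trans (l34_ms_pslEquiv (F := F)).symm⟩

theorem l34_ms_gen_perfect [Fintype F] (hF : Fintype.card F = 4) (hψ : Function.Injective ψ)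
    (L : Subgroup G) (hL : L = ψ.range) : commutator ↥L = ⊤ := by
  subst hL
  exact l34_ms_perfect_of_equiv (MonoidHom.ofInjective hψ).symm (l34_ms_SL2_perfect hF)

end generic

/-! ### the two Levi complements -/

theorem l34_ms_LA_eq : l34_LA F = ((l34_pi F).comp (l34_iA (F := F))).range := by
  rw [l34_LA, MonoidHom.map_range]

theorem l34_ms_LB_eq : l34_LB F = ((l34_pi F).comp (l34_iB (F := F))).range := by
  rw [l34_LB, MonoidHom.map_range]

theorem l34_ms_iA_injective : Function.Injective ((l34_pi F).comp (l34_iA (F := F))) := by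
  rw [injective_iff_map_eq_one]
  intro M hM
  rw [MonoidHom.comp_apply, ← map_one (l34_pi F), l34_pi_eq_iff] at hM
  obtain ⟨z, hz, h1⟩ := hM
  obtain ⟨r, -, hr⟩ := l34_center_scalar hz
  have h2 := congrArg (fun g : Matrix.SpecialLinearGroup (Fin 3) F =>
    (g : Matrix (Fin 3) (Fin 3) F)) h1
  simp only [Matrix.SpecialLinearGroup.coe_mul, Matrix.SpecialLinearGroup.coe_one, hr,
    Matrix.mul_smul, Matrix.mul_one, l34_iA_val] at h2
  have e00 := congrFun (congrFun h2 0) 0
  simp [Matrix.smul_apply] at e00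
  subst e00
  rw [one_smul] at h2
  apply Matrix.SpecialLinearGroup.ext
  intro i j
  rw [Matrix.SpecialLinearGroup.coe_one]
  fin_cases i <;> fin_cases j
  · have := congrFun (congrFun h2 1) 1
    simpa using this.symm
  · have := congrFun (congrFun h2 1) 2
    simpa using this.symm
  · have := congrFun (congrFun h2 2) 1
    simpa using this.symm
  · have := congrFun (congrFun h2 2) 2
    simpa using this.symm

theorem l34_ms_iB_injective : Function.Injective ((l34_pi F).comp (l34_iB (F := F))) := by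
  rw [injective_iff_map_eq_one]
  intro M hM
  rw [MonoidHom.comp_apply, ← map_one (l34_pi F), l34_pi_eq_iff] at hM
  obtain ⟨z, hz, h1⟩ := hM
  obtain ⟨r, -, hr⟩ := l34_center_scalar hz
  have h2 := congrArg (fun g : Matrix.SpecialLinearGroup (Fin 3) F =>
    (g : Matrix (Fin 3) (Fin 3) F)) h1
  simp only [Matrix.SpecialLinearGroup.coe_mul, Matrix.SpecialLinearGroup.coe_one, hr,
    Matrix.mul_smul, Matrix.mul_one, l34_iB_val] at h2
  have e22 := congrFun (congrFun h2 2) 2
  simp [Matrix.smul_apply] at e22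
  subst e22
  rw [one_smul] at h2
  apply Matrix.SpecialLinearGroup.ext
  intro i j
  rw [Matrix.SpecialLinearGroup.coe_one]
  fin_cases i <;> fin_cases j
  · have := congrFun (congrFun h2 0) 0
    simpa using this.symm
  · have := congrFun (congrFun h2 0) 1
    simpa using this.symm
  · have := congrFun (congrFun h2 1) 0
    simpa using this.symm
  · have := congrFun (congrFun h2 1) 1
    simpa using this.symm

variable [Fintype F]

theorem l34_LA_two_sq (hF : Fintype.card F = 4) :
    ∀ l ∈ l34_LA F, (∃ n : ℕ, l ^ 2 ^ n = 1) → l ^ 2 = 1 := by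
  have := l34_charTwo_of_card hF
  exact l34_ms_gen_two_sq _ l34_ms_iA_injective _ l34_ms_LA_eq

theorem l34_LB_two_sq (hF : Fintype.card F = 4) :
    ∀ l ∈ l34_LB F, (∃ n : ℕ, l ^ 2 ^ n = 1) → l ^ 2 = 1 := by
  have := l34_charTwo_of_card hF
  exact l34_ms_gen_two_sq _ l34_ms_iB_injective _ l34_ms_LB_eq

theorem l34_LA_perfect (hF : Fintype.card F = 4) : commutator ↥(l34_LA F) = ⊤ :=
  l34_ms_gen_perfect _ hF l34_ms_iA_injective _ l34_ms_LA_eq

theorem l34_LB_perfect (hF : Fintype.card F = 4) : commutator ↥(l34_LB F) = ⊤ :=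
  l34_ms_gen_perfect _ hF l34_ms_iB_injective _ l34_ms_LB_eq

theorem l34_LA_equiv (hF : Fintype.card F = 4) :
    Nonempty (↥(l34_LA F) ≃* Matrix.ProjectiveSpecialLinearGroup (Fin 2) F) := by
  have := l34_charTwo_of_card hF
  exact l34_ms_gen_equiv _ l34_ms_iA_injective _ l34_ms_LA_eq

theorem l34_LB_equiv (hF : Fintype.card F = 4) :
    Nonempty (↥(l34_LB F) ≃* Matrix.ProjectiveSpecialLinearGroup (Fin 2) F) := by
  have := l34_charTwo_of_card hF
  exact l34_ms_gen_equiv _ l34_ms_iB_injective _ l34_ms_LB_eq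

end Cfsg.Agent.L34C
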