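import Mathlib
import Cfsg.Agent.L34C.AbsE
import Cfsg.Agent.L34C.AbsZ
import Cfsg.Agent.L34C.AbsC
import Cfsg.Agent.L34C.MatU
import Cfsg.Agent.L34C.MatN
import Cfsg.Agent.L34C.MatS

/-!
# L34C (S3154): the main theorem for a central extension `ψ : X → PSL(3, 4)` with kernel of
exponent `2`, for the full preimages of the two standard elementary abelian subgroups of order 16
-/

set_option autoImplicit false

namespace Cfsg.Agent.L34C

open Matrix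

variable {F : Type*} [Field F] [Fintype F]

/-- every involution of `PSL(3, 4)` is conjugate into `Āb ⊓ B̄b` -/
theorem l34_invol_conj (hF : Fintype.card F = 4)
    (t : Matrix.ProjectiveSpecialLinearGroup (Fin 3) F) (ht : t ^ 2 = 1) :
    t = 1 ∨ ∃ g : Matrix.ProjectiveSpecialLinearGroup (Fin 3) F,
      g * t * g⁻¹ ∈ l34_Ab F ⊓ l34_Bb F := by
  have : Fact (Nat.Prime 2) := ⟨Nat.prime_two⟩
  by_cases ht1 : t = 1
  · exact Or.inl ht1
  right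
  -- `⟨t⟩` is a 2-group
  have hp : IsPGroup 2 (Subgroup.zpowers t) := by
    rintro ⟨x, hx⟩
    obtain ⟨k, rfl⟩ := Subgroup.mem_zpowers_iff.mp hx
    refine ⟨1, ?_⟩
    apply Subtype.ext
    show (t ^ k) ^ 2 ^ 1 = 1
    rw [pow_one, ← zpow_natCast, ← _root_.zpow_mul, mul_comm, _root_.zpow_mul, zpow_natCast, ht, _root_.one_zpow]
  obtain ⟨Q, hQ⟩ := hp.exists_le_sylow
  obtain ⟨P, hP⟩ := l34_Ub_sylow hF
  obtain ⟨g, hg⟩ := MulAction.exists_smul_eq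
    (Matrix.ProjectiveSpecialLinearGroup (Fin 3) F) Q P
  have htQ : t ∈ (Q : Subgroup (Matrix.ProjectiveSpecialLinearGroup (Fin 3) F)) :=
    hQ (Subgroup.mem_zpowers t)
  have h1 : g * t * g⁻¹ ∈ l34_Ub F := by
    rw [← hP, ← hg, Sylow.coe_subgroup_smul]
    exact Subgroup.smul_mem_pointwise_smul t (MulAut.conj g) _ htQ
  have h2 : (g * t * g⁻¹) ^ 2 = 1 := by
    have : (g * t * g⁻¹) ^ 2 = g * t ^ 2 * g⁻¹ := by rw [pow_two, pow_two]; group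
    rw [this, ht, mul_one, mul_inv_cancel]
  have h3 : g * t * g⁻¹ ≠ 1 := by
    intro h
    apply ht1
    have : t = g⁻¹ * (g * t * g⁻¹) * g := by group
    rw [this, h, mul_one, inv_mul_cancel]
  obtain ⟨c, hc, hc1⟩ := l34_AbBb_ne (F := F) hF
  rcases l34_Ub_invol hF _ h1 h2 with h | h
  · obtain ⟨l, hl⟩ := l34_Ab_fused hF _ h h3 c hc.1 hc1
    refine ⟨l * g, ?_⟩
    have : l * g * t * (l * g)⁻¹ = l * (g * t * g⁻¹) * l⁻¹ := by group
    rw [this, hl]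
    exact hc
  · obtain ⟨l, hl⟩ := l34_Bb_fused hF _ h h3 c hc.2 hc1
    refine ⟨l * g, ?_⟩
    have : l * g * t * (l * g)⁻¹ = l * (g * t * g⁻¹) * l⁻¹ := by group
    rw [this, hl]
    exact hc

/-- a set of involutions closed under products is commutative -/
theorem l34_comm_of_sq {X : Type*} [Group X] (S : Subgroup X) (h : ∀ x ∈ S, x ^ 2 = 1) :
    ∀ x ∈ S, ∀ y ∈ S, x * y = y * x := by
  have hinv : ∀ a ∈ S, a⁻¹ = a := by
    intro a ha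
    rw [inv_eq_iff_mul_eq_one, ← pow_two]
    exact h a ha
  intro a ha b hb
  have h3 : (a * b)⁻¹ = a * b := hinv _ (S.mul_mem ha hb)
  rw [_root_.mul_inv_rev, hinv a ha, hinv b hb] at h3
  exact h3.symm

/-- **The main theorem**, for a central extension `ψ` of `PSL(3, 4)` with kernel of exponent 2. -/
theorem l34_main {X : Type*} [Group X] [Finite X] (hF : Fintype.card F = 4)
    (ψ : X →* Matrix.ProjectiveSpecialLinearGroup (Fin 3) F) (hψ : Function.Surjective ψ)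
    (hker : ψ.ker ≤ Subgroup.center X) (hker2 : ∀ z ∈ ψ.ker, z ^ 2 = 1) :
    (∀ h ∈ (l34_Ab F).comap ψ, h ^ 2 = 1) ∧ (∀ k ∈ (l34_Bb F).comap ψ, k ^ 2 = 1) ∧
    (l34_Ab F).comap ψ ⊓ (l34_Bb F).comap ψ =
      (Subgroup.center ↥((l34_Ab F).comap ψ ⊔ (l34_Bb F).comap ψ)).map
        ((l34_Ab F).comap ψ ⊔ (l34_Bb F).comap ψ).subtype ∧
    (∃ C : Subgroup X, C ≤ Subgroup.normalizer (((l34_Ab F).comap ψ : Subgroup X) : Set X) ∧
      C ⊓ (l34_Ab F).comap ψ = ⊥ ∧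
      (l34_Ab F).comap ψ ⊔ C = Subgroup.normalizer (((l34_Ab F).comap ψ : Subgroup X) : Set X) ∧
      Nonempty (↥C ≃* Matrix.ProjectiveSpecialLinearGroup (Fin 2) F)) ∧
    (∃ C : Subgroup X, C ≤ Subgroup.normalizer (((l34_Bb F).comap ψ : Subgroup X) : Set X) ∧
      C ⊓ (l34_Bb F).comap ψ = ⊥ ∧
      (l34_Bb F).comap ψ ⊔ C = Subgroup.normalizer (((l34_Bb F).comap ψ : Subgroup X) : Set X) ∧
      Nonempty (↥C ≃* Matrix.ProjectiveSpecialLinearGroup (Fin 2) F)) := by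
  have hH2 := l34_abs_exp_two ψ hψ hker hker2 (l34_Ab F) (l34_Ab_sq hF) (l34_Ab_fused hF)
    (l34_Ab_ind hF)
  have hK2 := l34_abs_exp_two ψ hψ hker hker2 (l34_Bb F) (l34_Bb_sq hF) (l34_Bb_fused hF)
    (l34_Bb_ind hF)
  have hΛA : ∀ l ∈ l34_LA F, (∃ n : ℕ, l ^ 2 ^ n = 1) →
      l = 1 ∨ ∃ g : Matrix.ProjectiveSpecialLinearGroup (Fin 3) F, g * l * g⁻¹ ∈ l34_Bb F := by
    intro l hl hn
    rcases l34_invol_conj hF l (l34_LA_two_sq hF l hl hn) with h | ⟨g, hg⟩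
    · exact Or.inl h
    · exact Or.inr ⟨g, hg.2⟩
  have hΛB : ∀ l ∈ l34_LB F, (∃ n : ℕ, l ^ 2 ^ n = 1) →
      l = 1 ∨ ∃ g : Matrix.ProjectiveSpecialLinearGroup (Fin 3) F, g * l * g⁻¹ ∈ l34_Ab F := by
    intro l hl hn
    rcases l34_invol_conj hF l (l34_LB_two_sq hF l hl hn) with h | ⟨g, hg⟩
    · exact Or.inl h
    · exact Or.inr ⟨g, hg.1⟩
  refine ⟨hH2, hK2, ?_, ?_, ?_⟩
  · exact l34_abs_center ψ hψ (l34_Ab F) (l34_Bb F) (l34_comm_of_sq _ hH2) (l34_comm_of_sq _ hK2)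
      (l34_hcent hF)
  · obtain ⟨C, h1, h2, h3, ⟨e⟩⟩ := l34_abs_compl ψ hψ hker hker2 (l34_Ab F) (l34_Bb F) (l34_LA F)
      hK2 (l34_LA_perfect hF) hΛA (l34_LA_le_norm hF) (l34_norm_Ab hF) (l34_Ab_inf_LA hF)
    obtain ⟨e'⟩ := l34_LA_equiv (F := F) hF
    exact ⟨C, h1, h2, h3, ⟨e.trans e'⟩⟩
  · obtain ⟨C, h1, h2, h3, ⟨e⟩⟩ := l34_abs_compl ψ hψ hker hker2 (l34_Bb F) (l34_Ab F) (l34_LB F)
      hH2 (l34_LB_perfect hF) hΛB (l34_LB_le_norm hF) (l34_norm_Bb hF) (l34_Bb_inf_LB hF)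
    obtain ⟨e'⟩ := l34_LB_equiv (F := F) hF
    exact ⟨C, h1, h2, h3, ⟨e.trans e'⟩⟩

end Cfsg.Agent.L34C
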